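import Cfsg.Agent.Lib.Compute.M23Ext.CascData

/-!
# The cascade on the dodecads

The numbers on the edges of the table of the dodecads, with the prescribed sums on closed walks, are determined by
their sums on a few closed walks.
-/

set_option autoImplicit false
set_option maxRecDepth 1000000

namespace Cfsg.Agent.Lib.Compute.M23Ext

open Cfsg Cfsg.Agent.Lib.Compute.SchurLin Cfsg.Agent.Lib.Compute.Schur2
open Cfsg.Agent.Lib.Compute.ToddCoxeterCore (wordEl wordEl_nil wordEl_cons wordEl_append frc frc_eq)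
open Cfsg.Agent.Lib.Compute.Golay Cfsg.Agent.Lib.Compute.GolayFast Cfsg.Agent.Lib.Compute.GolayDual
open Cfsg.Agent.Lib.Compute.PermCert (allB allB_iff)

/-- The sum of the seeds of a mask. -/
noncomputable def ev (σ : ℕ → ZMod 2) (m : ℕ) : ZMod 2 :=
  ∑ j ∈ Finset.range 250, if m.testBit j then σ j else 0

theorem ev_xor (σ : ℕ → ZMod 2) (a b : ℕ) : ev σ (a ^^^ b) = ev σ a + ev σ b := by
  unfold ev
  rw [← Finset.sum_add_distrib]
  apply Finset.sum_congr rfl
  intro j _
  rw [Nat.testBit_xor]
  cases a.testBit j <;> cases b.testBit j <;> simp [add_self_z2]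

theorem ev_zero (σ : ℕ → ZMod 2) : ev σ 0 = 0 := by
  simp [ev]

theorem ev_pow (σ : ℕ → ZMod 2) {j : ℕ} (hj : j < 250) : ev σ (2 ^ j) = σ j := by
  unfold ev
  rw [Finset.sum_eq_single j]
  · simp [Nat.testBit_two_pow_self]
  · intro b _ hb
    rw [Nat.testBit_two_pow_of_ne (Ne.symm hb)]
    simp
  · intro h
    exact absurd (Finset.mem_range.2 hj) h

/-- The words of the cascade. -/
noncomputable def wx (k : ℕ) : List ℕ := bif Nat.blt k 14 then c.W.getD k [] else lpW.getD (Nat.sub k 14) []

theorem wx_lt {k : ℕ} (hk : k < 14) : wx k = c.W.getD k [] := by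
  unfold wx
  rw [show Nat.blt k 14 = true by rw [Nat.blt_eq]; exact hk]
  rfl

theorem wx_ge {k : ℕ} (hk : 14 ≤ k) : wx k = lpW.getD (k - 14) [] := by
  unfold wx
  rw [show Nat.blt k 14 = false by
    cases h : Nat.blt k 14 with
    | false => rfl
    | true =>
      rw [Nat.blt_eq] at h
      omega]
  rfl

theorem lp_letters : ∀ s < 23, (lpW.getD s []).all (fun x => Nat.blt x 6) = true := by decide +kernel

theorem wx_letters : ∀ k, k < 37 → ∀ x ∈ wx k, x < 6 := by
  intro k hk x hx
  by_cases h : k < 14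
  · rw [wx_lt h] at hx
    exact hn k x hx
  · rw [wx_ge (by omega)] at hx
    have h1 := lp_letters (k - 14) (by omega)
    rw [List.all_eq_true] at h1
    have := h1 x hx
    rwa [Nat.blt_eq] at this

/-- The sum of the masks along a walk. -/
noncomputable def xorW (i : ℕ) (w : List ℕ) : ℕ :=
  List.rec (motive := fun _ => ℕ → ℕ) (fun _ => 0)
    (fun x _ ih i => Nat.xor (em (Nat.add (Nat.mul i 6) x)) (frc (dt i x) ih)) w i

theorem xorW_nil (i : ℕ) : xorW i [] = 0 := rfl

theorem xorW_cons (i x : ℕ) (u : List ℕ) : xorW i (x :: u) = em (i * 6 + x) ^^^ xorW (dt i x) u := by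
  show Nat.xor (em _) (frc (dt i x) (fun i => xorW i u)) = _
  rw [frc_eq]
  rfl

/-- The value of a relator at a dodecad, as a mask. -/
noncomputable def rhsF (k cf : ℕ) : ℕ → ℕ
  | 0 => 0
  | n + 1 => Nat.xor (bif cf.testBit n then Nat.pow 2 (Nat.add (Nat.mul 11 k) n) else 0) (rhsF k cf n)

/-- A dodecad from its coordinates. -/
noncomputable def foldD (cf : ℕ) : ℕ → ℕ
  | 0 => 0
  | n + 1 => Nat.xor (bif cf.testBit n then dm (bqL.getD n 0) else 0) (foldD cf n)

theorem foldD_chk : allB (fun i => Nat.beq (foldD (cfE i) 11) (dm i)) 1288 = true := by decide +kernel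

theorem foldD_eq {i : ℕ} (hi : i < 1288) : foldD (cfE i) 11 = dm i :=
  Nat.eq_of_beq_eq_true ((allB_iff _ _).1 foldD_chk i hi)

/-- The value of a word at a point, as a mask. -/
noncomputable def rhsM (k i : ℕ) : ℕ := bif Nat.blt k 14 then rhsF k (cfE i) 11 else 0

/-- Is an edge in the spanning tree? -/
noncomputable def treeE (i x j y : ℕ) : Bool :=
  (Nat.blt 0 j && Nat.beq (dpar j) i && Nat.beq (dlt j) x) ||
    (Nat.blt 0 i && Nat.beq (dpar i) j && Nat.beq (dlt i) y)

/-- The justification of an edge. -/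
noncomputable def scanE (i x j y u r : ℕ) : Bool :=
  frc (jkE u) fun k => frc (jiE u) fun i0 =>
    Nat.blt k 37 && (Nat.blt k 14 || Nat.beq i0 0) && Nat.blt i0 1288 && Nat.beq (walkEndF dt i0 (wx k)) i0 &&
      oneHitF dt 6 rkE r i x j y i0 (wx k) && Nat.beq (xorW i0 (wx k)) (rhsM k i0)

/-- The check of an edge. -/
noncomputable def edgeE (i x : ℕ) : Bool :=
  frc (dt i x) fun j => frc (flpB x) fun y =>
    frc (Nat.add (Nat.mul i 6) x) fun u => frc (Nat.add (Nat.mul j 6) y) fun v =>
      frc (rkE u) fun r =>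
        Nat.beq (rkE v) r && Nat.beq (em v) (em u) &&
          (bif Nat.ble u v then
            (bif Nat.beq r 0 then
              (treeE i x j y && Nat.beq (em u) 0) ||
                (Nat.blt (jkE u) 96 && Nat.beq (sdE (jkE u)) u &&
                  Nat.beq (em u) (Nat.pow 2 (Nat.add 154 (jkE u))))
             else scanE i x j y u r)
           else true)

theorem edge_chk : allB (fun i => allB (edgeE i) 6) 1288 = true := by decide +kernel

/-- The check of a relation among the seeds. -/
noncomputable def relE (r : ℕ) : Bool :=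
  frc (rkvE r) fun k => frc (rivE r) fun i0 =>
    Nat.blt k 37 && (Nat.blt k 14 || Nat.beq i0 0) && Nat.blt i0 1288 && Nat.beq (walkEndF dt i0 (wx k)) i0 &&
      Nat.beq (Nat.xor (xorW i0 (wx k)) (rhsM k i0)) (rvE r)

theorem rel_chk : allB relE 250 = true := by decide +kernel

/-- A combination of the relations. -/
noncomputable def foldR (m : ℕ) : ℕ → ℕ
  | 0 => 0
  | n + 1 => Nat.xor (bif m.testBit n then rvE n else 0) (foldR m n)

theorem cmb_chk : allB (fun j => Nat.beq (foldR (cmE j) 250) (Nat.pow 2 j)) 250 = true := by decide +kernel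

/-! ### Sums on walks with zero edges -/

section Add

variable {δ : ℕ → ℕ → ZMod 2} {rk : ℕ → ℕ}

theorem allLow_add {r : ℕ} (hlow : ∀ i < 1288, ∀ x < 6, rk (Nat.add (Nat.mul i 6) x) < r → δ i x = 0)
    {w : List ℕ} (hw : ∀ x ∈ w, x < 6) {i : ℕ} (hi : i < 1288)
    (h : allLow dt 6 rk r i w = true) : walkAdd δ i w = 0 := by
  induction w generalizing i with
  | nil => rfl
  | cons x w ih =>
    simp only [allLow, Bool.and_eq_true, Nat.blt_eq] at h
    have hx := hw x List.mem_cons_self
    simp only [walkAdd]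
    rw [hlow i hi x hx h.1, ih (fun y hy => hw y (List.mem_cons_of_mem _ hy)) (dt_lt i hi x hx) h.2, add_zero]

theorem oneHit_add {r i₁ x₁ i₂ x₂ : ℕ} (hlow : ∀ i < 1288, ∀ x < 6, rk (Nat.add (Nat.mul i 6) x) < r → δ i x = 0)
    (hfl : δ i₂ x₂ = δ i₁ x₁) {w : List ℕ} (hw : ∀ x ∈ w, x < 6) {i : ℕ} (hi : i < 1288)
    (h : oneHit dt 6 rk r i₁ x₁ i₂ x₂ i w = true) (hP : walkAdd δ i w = 0) : δ i₁ x₁ = 0 := by
  induction w generalizing i with
  | nil => simp [oneHit] at h
  | cons x w ih =>
    have hx := hw x List.mem_cons_self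
    have hw' : ∀ y ∈ w, y < 6 := fun y hy => hw y (List.mem_cons_of_mem _ hy)
    simp only [walkAdd] at hP
    rw [oneHit] at h
    cases hb : ((Nat.beq i i₁ && Nat.beq x x₁) || (Nat.beq i i₂ && Nat.beq x x₂)) with
    | true =>
      rw [hb, cond_true] at h
      rw [allLow_add hlow hw' (dt_lt i hi x hx) h, add_zero] at hP
      simp only [Bool.or_eq_true, Bool.and_eq_true, Nat.beq_eq] at hb
      rcases hb with ⟨rfl, rfl⟩ | ⟨rfl, rfl⟩
      · exact hP
      · rw [← hfl]
        exact hP
    | false =>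
      rw [hb, cond_false, Bool.and_eq_true, Nat.blt_eq] at h
      rw [hlow i hi x hx h.1, zero_add] at hP
      exact ih hw' (dt_lt i hi x hx) h.2 hP

end Add

/-! ### The values of the seeds -/

/-- The values of the seeds. -/
noncomputable def sg (D : ℕ → ℕ → ZMod 2) (V : ℕ → GolayPt → ZMod 2) (j : ℕ) : ZMod 2 :=
  if j < 154 then fw (V (j / 11)) (bqL.getD (j % 11) 0) else D (sdE (j - 154) / 6) (sdE (j - 154) % 6)

section Main

variable (D : ℕ → ℕ → ZMod 2) (V : ℕ → GolayPt → ZMod 2)

theorem rhsF_ev {k : ℕ} (hk : k < 14) (cf : ℕ) {n : ℕ} (hn : n ≤ 11) :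
    ev (sg D V) (rhsF k cf n) = dotM (V k) (foldD cf n) := by
  induction n with
  | zero => exact (ev_zero _).trans (dotM_zero _).symm
  | succ n ih =>
    have h1 : rhsF k cf (n + 1) = (bif cf.testBit n then 2 ^ (11 * k + n) else 0) ^^^ rhsF k cf n := rfl
    have h2 : foldD cf (n + 1) = (bif cf.testBit n then dm (bqL.getD n 0) else 0) ^^^ foldD cf n := rfl
    have h5 : ev (sg D V) (bif cf.testBit n then 2 ^ (11 * k + n) else 0) =
        dotM (V k) (bif cf.testBit n then dm (bqL.getD n 0) else 0) := by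
      cases cf.testBit n with
      | false => exact (ev_zero _).trans (dotM_zero _).symm
      | true =>
        show ev (sg D V) (2 ^ (11 * k + n)) = dotM (V k) (dm (bqL.getD n 0))
        rw [ev_pow _ (by omega), ← fw_eq_dotM, sg, if_pos (by omega)]
        have h3 : (11 * k + n) / 11 = k := by omega
        have h4 : (11 * k + n) % 11 = n := by omega
        rw [h3, h4]
    rw [h1, h2, ev_xor, dotM_xor, ih (by omega), h5]

theorem rhsM_ev {k i : ℕ} (hk : k < 14) (hi : i < 1288) : ev (sg D V) (rhsM k i) = fw (V k) i := by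
  unfold rhsM
  rw [show Nat.blt k 14 = true by rw [Nat.blt_eq]; exact hk, cond_true, rhsF_ev D V hk _ (le_refl _), foldD_eq hi,
    fw_eq_dotM]

/-- A walk and the masks. -/
theorem walkAdd_ev (σ : ℕ → ZMod 2) (i : ℕ) (w : List ℕ) :
    walkAdd (fun i x => D i x + ev σ (em (i * 6 + x))) i w = walkAdd D i w + ev σ (xorW i w) := by
  induction w generalizing i with
  | nil =>
    simp only [walkAdd, xorW_nil, ev_zero, add_zero]
  | cons x w ih =>
    simp only [walkAdd, xorW_cons, ev_xor, ih]
    abel

/-- **The cascade.** -/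
theorem casc_zero (h0 : ∀ i < 1288, i ≠ 0 → D (dpar i) (dlt i) = 0)
    (hf : ∀ i < 1288, ∀ x < 6, D (dt i x) (flp x) = D i x)
    (hr : ∀ k < 14, ∀ i < 1288, walkAdd D i (c.W.getD k []) = fw (V k) i)
    (hl : ∀ s < 23, walkAdd D 0 (lpW.getD s []) = 0) :
    ∀ i < 1288, ∀ x < 6, D i x = 0 := by
  set σ := sg D V with hσ
  -- the equations
  have hE : ∀ k < 37, ∀ i < 1288, (k < 14 ∨ i = 0) → walkAdd D i (wx k) = ev σ (rhsM k i) := by
    intro k hk i hi hc
    by_cases h : k < 14
    · rw [wx_lt h, hr k h i hi]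
      exact (rhsM_ev D V h hi).symm
    · have hi0 : i = 0 := by
        rcases hc with hc | hc
        · exact absurd hc h
        · exact hc
      subst hi0
      rw [wx_ge (by omega), hl (k - 14) (by omega)]
      unfold rhsM
      rw [show Nat.blt k 14 = false by
        cases h' : Nat.blt k 14 with
        | false => rfl
        | true =>
          rw [Nat.blt_eq] at h'
          exact absurd h' h]
      exact (ev_zero _).symm
  -- the differences
  let δ : ℕ → ℕ → ZMod 2 := fun i x => D i x + ev σ (em (i * 6 + x))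
  have hδ : ∀ i x, δ i x = 0 → D i x = ev σ (em (i * 6 + x)) := by
    intro i x h
    have h1 : D i x + ev σ (em (i * 6 + x)) = 0 := h
    have h2 := add_self_z2 (ev σ (em (i * 6 + x)))
    calc D i x = D i x + (ev σ (em (i * 6 + x)) + ev σ (em (i * 6 + x))) := by rw [h2, add_zero]
      _ = ev σ (em (i * 6 + x)) := by rw [← add_assoc, h1, zero_add]
  have hδ' : ∀ i x, D i x = ev σ (em (i * 6 + x)) → δ i x = 0 := by
    intro i x h
    show D i x + ev σ (em (i * 6 + x)) = 0
    rw [h]
    exact add_self_z2 _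
  have hedge : ∀ i < 1288, ∀ x < 6, edgeE i x = true := by
    intro i hi x hx
    exact (allB_iff _ _).1 ((allB_iff _ _).1 edge_chk i hi) x hx
  -- the properties of the edges
  have hpart : ∀ i < 1288, ∀ x < 6, rkE (dt i x * 6 + flp x) = rkE (i * 6 + x) ∧
      em (dt i x * 6 + flp x) = em (i * 6 + x) ∧
      (Nat.ble (i * 6 + x) (dt i x * 6 + flp x) = true →
        (bif Nat.beq (rkE (i * 6 + x)) 0 then
              (treeE i x (dt i x) (flp x) && Nat.beq (em (i * 6 + x)) 0) ||
                (Nat.blt (jkE (i * 6 + x)) 96 && Nat.beq (sdE (jkE (i * 6 + x))) (i * 6 + x) &&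
                  Nat.beq (em (i * 6 + x)) (Nat.pow 2 (Nat.add 154 (jkE (i * 6 + x)))))
             else scanE i x (dt i x) (flp x) (i * 6 + x) (rkE (i * 6 + x))) = true) := by
    intro i hi x hx
    have h := hedge i hi x hx
    unfold edgeE at h
    simp only [frc_eq, flpB_eq, Bool.and_eq_true, Nat.beq_eq] at h
    obtain ⟨⟨h1, h2⟩, h3⟩ := h
    refine ⟨h1, h2, ?_⟩
    intro hle
    rw [show Nat.ble (Nat.add (Nat.mul i 6) x) (Nat.add (Nat.mul (dt i x) 6) (flp x)) = true from hle, cond_true] at h3
    exact h3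
  have main : ∀ r, ∀ i < 1288, ∀ x < 6, rkE (i * 6 + x) < r → D i x = ev σ (em (i * 6 + x)) := by
    intro r
    induction r with
    | zero => exact fun _ _ _ _ h => absurd h (Nat.not_lt_zero _)
    | succ r ih =>
      have hlow : ∀ i < 1288, ∀ x < 6, rkE (Nat.add (Nat.mul i 6) x) < r → δ i x = 0 :=
        fun i hi x hx h => hδ' i x (ih i hi x hx h)
      have canon : ∀ i < 1288, ∀ x < 6, rkE (i * 6 + x) = r →
          Nat.ble (i * 6 + x) (dt i x * 6 + flp x) = true → D i x = ev σ (em (i * 6 + x)) := by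
        intro i hi x hx hrk hle
        have h3 := (hpart i hi x hx).2.2 hle
        by_cases hz : rkE (i * 6 + x) = 0
        · rw [show Nat.beq (rkE (i * 6 + x)) 0 = true by rw [Nat.beq_eq]; exact hz, cond_true] at h3
          simp only [Bool.or_eq_true, Bool.and_eq_true, Nat.beq_eq, Nat.blt_eq] at h3
          rcases h3 with ⟨htr, hem⟩ | ⟨⟨hlt, hsd⟩, hem⟩
          · rw [hem, ev_zero]
            simp only [treeE, Bool.or_eq_true, Bool.and_eq_true, Nat.beq_eq, Nat.blt_eq] at htr
            rcases htr with ⟨⟨h4, h5⟩, h6⟩ | ⟨⟨h4, h5⟩, h6⟩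
            · have h7 := h0 _ (dt_lt i hi x hx) (by omega)
              rwa [h5, h6] at h7
            · have h7 := h0 i hi (by omega)
              rw [h5, h6, hf i hi x hx] at h7
              exact h7
          · rw [hem]
            have h5 : (Nat.pow 2 (Nat.add 154 (jkE (i * 6 + x)))) = 2 ^ (154 + jkE (i * 6 + x)) := rfl
            rw [h5, ev_pow _ (by omega), hσ, sg, if_neg (by omega)]
            have h6 : 154 + jkE (i * 6 + x) - 154 = jkE (i * 6 + x) := by omega
            rw [h6, hsd]
            have h7 : (i * 6 + x) / 6 = i := by omega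
            have h8 : (i * 6 + x) % 6 = x := by omega
            rw [h7, h8]
        · rw [show Nat.beq (rkE (i * 6 + x)) 0 = false by
            cases h' : Nat.beq (rkE (i * 6 + x)) 0 with
            | false => rfl
            | true => exact absurd (Nat.eq_of_beq_eq_true h') hz, cond_false] at h3
          unfold scanE at h3
          simp only [frc_eq, Bool.and_eq_true, Nat.blt_eq, Nat.beq_eq, Bool.or_eq_true, walkEndF_eq, oneHitF_eq] at h3
          obtain ⟨⟨⟨⟨⟨h4, h5⟩, h6⟩, h7⟩, h8⟩, h9⟩ := h3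
          rw [hrk] at h8
          apply hδ
          have h10 := walkAdd_ev D σ (jiE (i * 6 + x)) (wx (jkE (i * 6 + x)))
          rw [hE _ h4 _ h6 h5, h9, add_self_z2] at h10
          refine oneHit_add hlow ?_ (wx_letters _ h4) h6 h8 h10
          show D _ _ + ev σ (em _) = D _ _ + ev σ (em _)
          rw [hf i hi x hx, (hpart i hi x hx).2.1]
      intro i hi x hx hlt
      rcases Nat.lt_succ_iff_lt_or_eq.mp hlt with h | h
      · exact ih i hi x hx h
      · by_cases hle : Nat.ble (i * 6 + x) (dt i x * 6 + flp x) = true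
        · exact canon i hi x hx h hle
        · obtain ⟨h1, h2, -⟩ := hpart i hi x hx
          have hti := dt_lt i hi x hx
          have hle' : Nat.ble (dt i x * 6 + flp x) (dt (dt i x) (flp x) * 6 + flp (flp x)) = true := by
            rw [dt_flp i hi x hx, flp_flp]
            rw [Nat.ble_eq] at hle ⊢
            omega
          have h5 := canon _ hti _ (flp_lt (n := 3) hx) (h1.trans h) hle'
          rw [hf i hi x hx, h2] at h5
          exact h5
  have hall : ∀ i < 1288, ∀ x < 6, D i x = ev σ (em (i * 6 + x)) :=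
    fun i hi x hx => main _ i hi x hx (Nat.lt_succ_self _)
  -- the relations
  have hrelv : ∀ r < 250, ev σ (rvE r) = 0 := by
    intro r hr'
    have h := (allB_iff _ _).1 rel_chk r hr'
    unfold relE at h
    simp only [frc_eq, Bool.and_eq_true, Nat.blt_eq, Nat.beq_eq, Bool.or_eq_true, walkEndF_eq] at h
    obtain ⟨⟨⟨⟨h4, h5⟩, h6⟩, _⟩, h9⟩ := h
    rw [← h9]
    show ev σ (xorW _ _ ^^^ rhsM _ _) = 0
    rw [ev_xor, ← hE _ h4 _ h6 h5]
    -- the sums on the walk
    have h10 := walkAdd_ev D σ (rivE r) (wx (rkvE r))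
    have h11 : walkAdd (fun i x => D i x + ev σ (em (i * 6 + x))) (rivE r) (wx (rkvE r)) = 0 := by
      have hz : ∀ i < 1288, ∀ x < 6, rkE (Nat.add (Nat.mul i 6) x) < rkE (Nat.add (Nat.mul i 6) x) + 1 → δ i x = 0 :=
        fun i hi x hx _ => hδ' i x (hall i hi x hx)
      have : ∀ (w : List ℕ), (∀ x ∈ w, x < 6) → ∀ i < 1288, walkAdd δ i w = 0 := by
        intro w hw
        induction w with
        | nil => intro i _; rfl
        | cons x w ih =>
          intro i hi
          have hx := hw x List.mem_cons_self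
          simp only [walkAdd]
          rw [hδ' i x (hall i hi x hx), ih (fun y hy => hw y (List.mem_cons_of_mem _ hy)) _ (dt_lt i hi x hx),
            add_zero]
      exact this _ (wx_letters _ h4) _ h6
    rw [h11] at h10
    rw [add_comm]
    exact h10.symm
  -- the seeds
  have hsd : ∀ j < 250, σ j = 0 := by
    intro j hj
    have h := Nat.eq_of_beq_eq_true ((allB_iff _ _).1 cmb_chk j hj)
    have h1 : ∀ m n, n ≤ 250 → ev σ (foldR m n) = 0 := by
      intro m n hn
      induction n with
      | zero => exact ev_zero _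
      | succ n ih =>
        have h2 : foldR m (n + 1) = (bif m.testBit n then rvE n else 0) ^^^ foldR m n := rfl
        rw [h2, ev_xor, ih (by omega), add_zero]
        cases m.testBit n with
        | false => exact ev_zero _
        | true => exact hrelv n (by omega)
    have h3 := h1 (cmE j) 250 (le_refl _)
    rw [h, show Nat.pow 2 j = 2 ^ j from rfl, ev_pow _ hj] at h3
    exact h3
  intro i hi x hx
  rw [hall i hi x hx]
  unfold ev
  apply Finset.sum_eq_zero
  intro j hj
  rw [hsd j (Finset.mem_range.1 hj)]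
  simp

end Main

end Cfsg.Agent.Lib.Compute.M23Ext
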