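import Cfsg.Agent.Lib.Compute.M23Ext.RelChk

/-!
# A non-split extension of `M23` by the cocode module

Signed permutations of the dodecads avoiding the extra point, above `M23`.
-/

set_option autoImplicit false
set_option maxRecDepth 1000000

namespace Cfsg.Agent.Lib.Compute.M23Ext

open Cfsg Cfsg.Agent.Lib.Compute.SchurLin Cfsg.Agent.Lib.Compute.Schur2
open Cfsg.Agent.Lib.Compute.ToddCoxeterCore (wordEl wordEl_nil wordEl_cons wordEl_append)
open Cfsg.Agent.Lib.Compute.Golay Cfsg.Agent.Lib.Compute.GolayFast Cfsg.Agent.Lib.Compute.GolayDual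
open Cfsg.Agent.Lib.Compute.M24 Cfsg.Agent.Lib.Compute.M24Enum Cfsg.Agent.Lib.Compute.M24Norm
open Cfsg.Agent.Lib.Compute.OutCert Cfsg.Agent.Lib.Compute.M24Out
open scoped Pointwise

/-- The signed permutations. -/
abbrev Mon : Type := Equiv.Perm (Fin 1288 × ZMod 2)

/-- The ambient group. -/
abbrev Big : Type := Mon × G

/-- Signed permutations of a letter. -/
theorem along_of {Y : ℕ → Mon} {ζ : ℕ → ℕ → ZMod 2}
    (hY : ∀ j (hj : j < 3), Y j = sp (lP (2 * j) (by omega)) (fun i => ζ i (2 * j)))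
    (hζ : ∀ i < 1288, ∀ x < 6, ζ (dt i x) (flp x) = ζ i x) : Along (ltr Y) ζ := by
  refine ⟨?_⟩
  intro x hx i s
  rcases Nat.even_or_odd' x with ⟨j, rfl | rfl⟩
  · have h1 : ltr Y (2 * j) = Y j := by
      unfold ltr
      have h4 : (2 * j) % 2 = 0 := by omega
      have h5 : (2 * j) / 2 = j := by omega
      rw [if_pos h4, h5]
    rw [h1, hY j (by omega), sp_apply]
  · have h1 : ltr Y (2 * j + 1) = (Y j)⁻¹ := by
      unfold ltr
      have h4 : (2 * j + 1) % 2 ≠ 0 := by omega
      have h5 : (2 * j + 1) / 2 = j := by omega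
      rw [if_neg h4, h5]
    rw [h1, hY j (by omega), sp_inv, sp_apply]
    have hx' : 2 * j < 6 := by omega
    have h2 : (lP (2 * j) hx')⁻¹ i = lP (2 * j + 1) hx i := by
      apply Fin.ext
      rw [lP_inv_apply, lP_apply, flp_even]
    rw [h2, neg_z2, lP_apply]
    have h3 := hζ i i.2 (2 * j + 1) hx
    rw [flp_odd] at h3
    rw [h3]

/-- The generators above `M23`. -/
noncomputable def Yb (j : ℕ) : Big :=
  if h : j < 3 then (sp (lP (2 * j) (by omega)) (fun i => lb i (2 * j)), g j) else 1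

/-- The changes of signs from a word. -/
noncomputable def nb (w : GolayPt → ZMod 2) : Big := (sp 1 (fun i => fw w i), 1)

/-- The group. -/
noncomputable def E : Subgroup Big := Subgroup.closure (Set.range Yb ∪ Set.range nb)

theorem Yb_mem (j : ℕ) : Yb j ∈ E := Subgroup.subset_closure (Or.inl ⟨j, rfl⟩)

theorem nb_mem (w : GolayPt → ZMod 2) : nb w ∈ E := Subgroup.subset_closure (Or.inr ⟨w, rfl⟩)

theorem nb_add (w w' : GolayPt → ZMod 2) : nb w * nb w' = nb (w + w') := by
  apply Prod.ext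
  · show sp (1 : Equiv.Perm (Fin 1288)) (fun i => fw w i) * sp (1 : Equiv.Perm (Fin 1288)) (fun i => fw w' i) =
      sp (1 : Equiv.Perm (Fin 1288)) (fun i => fw (w + w') i)
    rw [sp_mul, mul_one]
    congr 1
    funext i
    simp only [Equiv.Perm.one_apply]
    rw [fw_add, add_comm]
  · show (1 : G) * 1 = 1
    rw [mul_one]

theorem nb_zero : nb 0 = 1 := by
  apply Prod.ext
  · show sp (1 : Equiv.Perm (Fin 1288)) (fun i => fw 0 i) = 1
    rw [sp_eq_one_iff]
    funext i
    exact fw_zero i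
  · rfl

theorem nb_self (w : GolayPt → ZMod 2) : nb w * nb w = 1 := by
  rw [nb_add, ← nb_zero]
  congr 1
  funext p
  exact add_self_z2 _

theorem nb_inv (w : GolayPt → ZMod 2) : (nb w)⁻¹ = nb w :=
  inv_eq_of_mul_eq_one_left (nb_self w)

/-- The form of the elements of the group. -/
def IsSg (b : Big) : Prop :=
  ∃ (π : Equiv.Perm (Fin 1288)) (f : Fin 1288 → ZMod 2), b.1 = sp π f ∧
    ∀ i : Fin 1288, ((b.2 : G) : P) • ω i = ω (π i)

theorem g_smul {j : ℕ} (hj : j < 3) (i : Fin 1288) :
    ((g j : G) : P) • ω i = ω (lP (2 * j) (by omega) i) := by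
  have h1 := tab.hact i i.2 (2 * j) (by omega)
  have h2 : ltr g (2 * j) = g j := by
    unfold ltr
    have h4 : (2 * j) % 2 = 0 := by omega
    have h5 : (2 * j) / 2 = j := by omega
    rw [if_pos h4, h5]
  rw [h2] at h1
  exact h1

theorem isSg_of_mem {b : Big} (hb : b ∈ E) : IsSg b := by
  induction hb using Subgroup.closure_induction with
  | mem x hx =>
    rcases hx with ⟨j, rfl⟩ | ⟨w, rfl⟩
    · by_cases hj : j < 3
      · refine ⟨lP (2 * j) (by omega), fun i => lb i (2 * j), ?_, ?_⟩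
        · simp only [Yb, dif_pos hj]
        · simp only [Yb, dif_pos hj]
          exact g_smul hj
      · refine ⟨1, 0, ?_, ?_⟩
        · simp only [Yb, dif_neg hj]
          exact sp_one.symm
        · intro i
          simp only [Yb, dif_neg hj]
          show (1 : P) • ω i = ω i
          rw [one_smul]
    · refine ⟨1, fun i => fw w i, rfl, ?_⟩
      intro i
      show (1 : P) • ω i = ω i
      rw [one_smul]
  | one =>
    refine ⟨1, 0, sp_one.symm, ?_⟩
    intro i
    show (1 : P) • ω i = ω i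
    rw [one_smul]
  | mul x y _ _ hx hy =>
    obtain ⟨π, f, h1, h2⟩ := hx
    obtain ⟨π', f', h3, h4⟩ := hy
    refine ⟨π * π', fun i => f' i + f (π' i), ?_, ?_⟩
    · show x.1 * y.1 = _
      rw [h1, h3, sp_mul]
    · intro i
      show (((x.2 : G) : P) * ((y.2 : G) : P)) • ω i = _
      rw [mul_smul, h4, h2]
      rfl
  | inv x _ hx =>
    obtain ⟨π, f, h1, h2⟩ := hx
    refine ⟨π⁻¹, fun k => - f (π⁻¹ k), ?_, ?_⟩
    · show x.1⁻¹ = _
      rw [h1, sp_inv]
    · intro i
      show ((x.2 : G) : P)⁻¹ • ω i = _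
      have h3 := h2 (π⁻¹ i)
      rw [show π (π⁻¹ i) = i from π.right_inv i] at h3
      rw [← h3, inv_smul_smul]

/-- The conjugates of the changes of signs. -/
theorem conj_nb {b : Big} (hb : b ∈ E) (w : GolayPt → ZMod 2) :
    b * nb w * b⁻¹ = nb (w ∘ ⇑(((b.2 : G) : P)⁻¹)) := by
  obtain ⟨π, f, h1, h2⟩ := isSg_of_mem hb
  apply Prod.ext
  · show b.1 * sp (1 : Equiv.Perm (Fin 1288)) (fun i => fw w i) * b.1⁻¹ =
      sp (1 : Equiv.Perm (Fin 1288)) (fun i => fw (w ∘ ⇑(((b.2 : G) : P)⁻¹)) i)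
    rw [h1, sp_conj]
    congr 1
    funext k
    refine (fw_comp (σ := ((b.2 : G) : P)) (i := π⁻¹ k) (k := k) ?_ w).symm
    have := h2 (π⁻¹ k)
    rwa [show π (π⁻¹ k) = k from π.right_inv k] at this
  · show b.2 * 1 * b.2⁻¹ = 1
    simp

/-- The normal subgroup. -/
noncomputable def N₀ : Subgroup E where
  carrier := {e | ∃ w, (e : Big) = nb w}
  mul_mem' := by
    rintro a b ⟨w, h⟩ ⟨w', h'⟩
    exact ⟨w + w', by rw [Subgroup.coe_mul, h, h', nb_add]⟩
  one_mem' := ⟨0, by rw [nb_zero]; rfl⟩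
  inv_mem' := by
    rintro a ⟨w, h⟩
    exact ⟨w, by rw [Subgroup.coe_inv, h, nb_inv]⟩

instance N₀_normal : N₀.Normal := by
  refine ⟨?_⟩
  rintro n ⟨w, h⟩ e
  refine ⟨w ∘ ⇑((((e : Big).2 : G) : P)⁻¹), ?_⟩
  rw [Subgroup.coe_mul, Subgroup.coe_mul, Subgroup.coe_inv, h]
  exact conj_nb e.2 w

/-- The projection. -/
noncomputable def pr : E →* G := (MonoidHom.snd Mon G).comp E.subtype

theorem N₀_le : N₀ ≤ pr.ker := by
  rintro n ⟨w, h⟩
  rw [MonoidHom.mem_ker]
  show (n : Big).2 = 1
  rw [h]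
  rfl

/-- The generators in the group. -/
noncomputable def YE (j : ℕ) : E := ⟨Yb j, Yb_mem j⟩

theorem pr_YE {j : ℕ} (hj : j < 3) : pr (YE j) = g j := by
  show (Yb j).2 = g j
  simp only [Yb, dif_pos hj]

theorem g_ge {j : ℕ} (hj : 3 ≤ j) : g j = 1 := by
  have h1 : gT.getD (2 * j) idL = idL := List.getD_eq_default _ _ (by
    have : gT.length = 6 := rfl
    omega)
  apply Subtype.ext
  unfold g gOf
  rw [h1, ofL_idL, dif_pos (one_mem _)]
  rfl

theorem pr_YE' (j : ℕ) : pr (YE j) = g j := by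
  by_cases hj : j < 3
  · exact pr_YE hj
  · rw [g_ge (not_lt.1 hj)]
    show (Yb j).2 = 1
    simp only [Yb, dif_neg hj]
    rfl

theorem pr_surj : Function.Surjective pr := by
  intro h
  have h1 := hgen h
  have h2 : Subgroup.closure (g '' Set.Iio c.n) ≤ pr.range := by
    rw [Subgroup.closure_le]
    rintro _ ⟨j, _, rfl⟩
    exact ⟨YE j, pr_YE' j⟩
  exact h2 h1

theorem hn : ∀ k, ∀ x ∈ c.W.getD k [], x < 6 := sound.hW

theorem fst_YE_word (w : List ℕ) : ((wordEl (ltr YE) w : E) : Big).1 = wordEl (ltr (fun j => (Yb j).1)) w :=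
  map_wordEl_ltr ((MonoidHom.fst Mon G).comp E.subtype) YE w

theorem along_Yb : Along (ltr (fun j => (Yb j).1)) lb := by
  apply along_of
  · intro j hj
    simp only [Yb, dif_pos hj]
  · intro i hi x hx
    exact lb_flp hi hx

/-- The relators of the generators are changes of signs. -/
theorem word_rel {k : ℕ} (hk : k < 14) : ((wordEl (ltr YE) (c.W.getD k []) : E) : Big) = nb (maskWord (vk.getD k 0)) := by
  apply Prod.ext
  · rw [fst_YE_word]
    apply Equiv.ext
    rintro ⟨i, s⟩
    obtain ⟨h1, h2⟩ := along_Yb.word _ (hn k) i s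
    obtain ⟨h3, h4⟩ := rel_walk hk i.2
    apply Prod.ext
    · apply Fin.ext
      rw [h1, h3]
      rfl
    · rw [h2, walkAdd_lb, h4]
      show _ = s + fw _ i
      rw [fw_eq_dotM, dotM_maskWord]
  · have h1 := map_wordEl_ltr pr YE (c.W.getD k [])
    have h2 : (fun j => pr (YE j)) = g := funext pr_YE'
    rw [h2, hrel k hk] at h1
    exact h1

theorem word_rel_mem {k : ℕ} (hk : k < 14) : wordEl (ltr YE) (c.W.getD k []) ∈ N₀ :=
  ⟨_, word_rel hk⟩

/-- The quotient. -/
abbrev X : Type := E ⧸ N₀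

/-- The generators of the quotient. -/
noncomputable def elX (j : ℕ) : X := ((YE j : E) : X)

theorem gen_X (x : X) : x ∈ Subgroup.closure (elX '' Set.Iio c.n) := by
  obtain ⟨e, rfl⟩ := QuotientGroup.mk_surjective x
  obtain ⟨b, hb⟩ := e
  induction hb using Subgroup.closure_induction with
  | mem y hy =>
    rcases hy with ⟨j, rfl⟩ | ⟨w, rfl⟩
    · by_cases hj : j < 3
      · exact Subgroup.subset_closure ⟨j, hj, rfl⟩
      · have h1 : (⟨Yb j, Subgroup.subset_closure (Or.inl ⟨j, rfl⟩)⟩ : E) = 1 := by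
          apply Subtype.ext
          show Yb j = 1
          simp only [Yb, dif_neg hj]
        rw [h1]
        exact one_mem _
    · have h1 : ((⟨nb w, Subgroup.subset_closure (Or.inr ⟨w, rfl⟩)⟩ : E) : X) = 1 := by
        rw [QuotientGroup.eq_one_iff]
        exact ⟨w, rfl⟩
      rw [h1]
      exact one_mem _
  | one => exact one_mem _
  | mul y z hy hz ihy ihz => exact mul_mem ihy ihz
  | inv y hy ih => exact inv_mem ih

theorem hrel_X : ∀ k < c.nrel, wordEl (ltr elX) (c.W.getD k []) = 1 := by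
  intro k hk
  have h1 := map_wordEl_ltr (QuotientGroup.mk' N₀) YE (c.W.getD k [])
  have h2 : (fun j => QuotientGroup.mk' N₀ (YE j)) = elX := rfl
  rw [h2] at h1
  rw [← h1]
  show ((wordEl (ltr YE) (c.W.getD k []) : E) : X) = 1
  rw [QuotientGroup.eq_one_iff]
  exact word_rel_mem hk

/-- The projection from the quotient. -/
noncomputable def prX : X →* G := QuotientGroup.lift N₀ pr N₀_le

theorem prX_bij : Function.Bijective prX := by
  have hs : Function.Surjective prX := by
    intro h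
    obtain ⟨e, he⟩ := pr_surj h
    exact ⟨(e : X), he⟩
  exact hs.bijective_of_nat_card_le (card_le hrel_X gen_X)

/-- The kernel of the projection is the subgroup of changes of signs. -/
theorem ker_pr {e : E} (he : pr e = 1) : e ∈ N₀ := by
  have h1 : prX (e : X) = prX 1 := by
    rw [map_one]
    exact he
  have h2 := prX_bij.1 h1
  exact (QuotientGroup.eq_one_iff e).1 h2

/-- The isomorphism of the quotient. -/
noncomputable def φ : X ≃* G := MulEquiv.ofBijective prX prX_bij

theorem φ_mk (e : E) : φ (e : X) = (e : Big).2 := rfl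

/-- The map from the words. -/
noncomputable def θ : (GolayPt → ZMod 2) →+ Additive N₀ where
  toFun w := Additive.ofMul ⟨⟨nb w, nb_mem w⟩, ⟨w, rfl⟩⟩
  map_zero' := by
    apply Additive.toMul.injective
    apply Subtype.ext
    apply Subtype.ext
    exact nb_zero
  map_add' w w' := by
    apply Additive.toMul.injective
    apply Subtype.ext
    apply Subtype.ext
    exact (nb_add w w').symm

theorem θ_surj : Function.Surjective θ := by
  intro n
  obtain ⟨n', rfl⟩ := Additive.ofMul.surjective n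
  obtain ⟨e, w, hw⟩ := n'
  refine ⟨w, ?_⟩
  apply Additive.toMul.injective
  apply Subtype.ext
  apply Subtype.ext
  exact hw.symm

theorem θ_eq_zero (w : GolayPt → ZMod 2) :
    θ w = 0 ↔ (w ∈ golayCode ∨ w + Pi.single none 1 ∈ golayCode) := by
  rw [← fw_eq_zero_iff]
  constructor
  · intro h i hi
    have h1 := congrArg (fun n : Additive N₀ => (((Additive.toMul n : N₀) : E) : Big).1) h
    have h2 : sp (1 : Equiv.Perm (Fin 1288)) (fun i => fw w i) = 1 := h1
    rw [sp_eq_one_iff] at h2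
    exact congrFun h2 ⟨i, hi⟩
  · intro h
    apply Additive.toMul.injective
    apply Subtype.ext
    apply Subtype.ext
    apply Prod.ext
    · show sp (1 : Equiv.Perm (Fin 1288)) (fun i => fw w i) = 1
      rw [sp_eq_one_iff]
      funext i
      exact h i i.2
    · rfl

theorem θ_conj (e : E) (w : GolayPt → ZMod 2) :
    (((θ (w ∘ ⇑(((φ (e : X) : G) : P)⁻¹))).toMul : N₀) : E) = e * ((θ w).toMul : N₀) * e⁻¹ := by
  apply Subtype.ext
  exact (conj_nb e.2 w).symm

/-! ### No complement -/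

/-- The source of an edge, for the pairings. -/
noncomputable def src (i x : ℕ) : ℕ := bif Nat.beq (Nat.mod x 2) 0 then i else dt i x

/-- The masks of a walk, for one generator. -/
noncomputable def rowJ (j : ℕ) : ℕ → List ℕ → ℕ
  | _, [] => 0
  | i, x :: u => (bif Nat.beq (Nat.div x 2) j then dm (src i x) else 0) ^^^ rowJ j (dt i x) u

/-- The sum of the masks of a selection. -/
noncomputable def foldX (j : ℕ) : List (ℕ × ℕ) → ℕ
  | [] => 0
  | q :: l => rowJ j q.2 (c.W.getD q.1 []) ^^^ foldX j l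

/-- The sum of the values of a selection. -/
noncomputable def foldC : List (ℕ × ℕ) → ℕ
  | [] => 0
  | q :: l => pop (vk.getD q.1 0 &&& dm q.2) + foldC l

theorem S0_ok : (∀ q ∈ S0, q.1 < 14 ∧ q.2 < 1288) ∧ foldX 0 S0 = 0 ∧ foldX 1 S0 = 0 ∧ foldX 2 S0 = 0 ∧
    foldC S0 % 2 = 1 := by
  decide +kernel

/-- The labels of a correction. -/
noncomputable def prz (w : ℕ → GolayPt → ZMod 2) (i x : ℕ) : ZMod 2 := fw (w (x / 2)) (src i x)

theorem src_flp {i x : ℕ} (hi : i < 1288) (hx : x < 6) : src (dt i x) (flp x) = src i x := by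
  unfold src
  rcases Nat.even_or_odd' x with ⟨j, rfl | rfl⟩
  · rw [flp_even]
    have h1 : Nat.mod (2 * j + 1) 2 = 1 := by
      show (2 * j + 1) % 2 = 1
      omega
    have h2 : Nat.mod (2 * j) 2 = 0 := by
      show (2 * j) % 2 = 0
      omega
    rw [h1, h2]
    have := dt_flp i hi (2 * j) hx
    rw [flp_even] at this
    exact this
  · rw [flp_odd]
    have h1 : Nat.mod (2 * j + 1) 2 = 1 := by
      show (2 * j + 1) % 2 = 1
      omega
    have h2 : Nat.mod (2 * j) 2 = 0 := by
      show (2 * j) % 2 = 0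
      omega
    rw [h1, h2]
    rfl

theorem prz_flp (w : ℕ → GolayPt → ZMod 2) {i x : ℕ} (hi : i < 1288) (hx : x < 6) :
    prz w (dt i x) (flp x) = prz w i x := by
  unfold prz
  rw [src_flp hi hx, flp_div]

/-- The sum of the corrections along a walk. -/
theorem walkAdd_prz (w : ℕ → GolayPt → ZMod 2) (i : ℕ) (u : List ℕ) (hu : ∀ x ∈ u, x < 6) :
    walkAdd (prz w) i u = dotM (w 0) (rowJ 0 i u) + dotM (w 1) (rowJ 1 i u) + dotM (w 2) (rowJ 2 i u) := by
  induction u generalizing i with
  | nil =>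
    simp only [walkAdd, rowJ, dotM_zero, add_zero]
  | cons x u ih =>
    have hx : x < 6 := hu x (by simp)
    simp only [walkAdd, rowJ, dotM_xor]
    rw [ih _ (fun y hy => hu y (by simp [hy]))]
    have h1 : prz w i x = dotM (w 0) (bif Nat.beq (Nat.div x 2) 0 then dm (src i x) else 0) +
        dotM (w 1) (bif Nat.beq (Nat.div x 2) 1 then dm (src i x) else 0) +
        dotM (w 2) (bif Nat.beq (Nat.div x 2) 2 then dm (src i x) else 0) := by
      unfold prz
      rw [fw_eq_dotM]
      have h2 : x / 2 < 3 := by omega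
      have h3 : Nat.div x 2 = x / 2 := rfl
      rw [h3]
      interval_cases (x / 2)
      · show dotM (w 0) (dm (src i x)) = dotM (w 0) (dm (src i x)) + dotM (w 1) 0 + dotM (w 2) 0
        rw [dotM_zero, dotM_zero, add_zero, add_zero]
      · show dotM (w 1) (dm (src i x)) = dotM (w 0) 0 + dotM (w 1) (dm (src i x)) + dotM (w 2) 0
        rw [dotM_zero, dotM_zero, add_zero, zero_add]
      · show dotM (w 2) (dm (src i x)) = dotM (w 0) 0 + dotM (w 1) 0 + dotM (w 2) (dm (src i x))
        rw [dotM_zero, dotM_zero, add_zero, zero_add]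
    rw [h1]
    abel

/-- The equations have no solution. -/
theorem no_solution (w : ℕ → GolayPt → ZMod 2)
    (h : ∀ k < 14, ∀ i < 1288, walkAdd (fun i x => lb i x + prz w i x) i (c.W.getD k []) = 0) : False := by
  obtain ⟨h0, h1, h2, h3, h4⟩ := S0_ok
  have key : ∀ l : List (ℕ × ℕ), (∀ q ∈ l, q.1 < 14 ∧ q.2 < 1288) →
      (foldC l : ZMod 2) + dotM (w 0) (foldX 0 l) + dotM (w 1) (foldX 1 l) + dotM (w 2) (foldX 2 l) = 0 := by
    intro l hl
    induction l with
    | nil =>
      simp [foldC, foldX, dotM_zero]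
    | cons q l ih =>
      have hq := hl q (by simp)
      have h5 := h q.1 hq.1 q.2 hq.2
      rw [walkAdd_add, walkAdd_lb, (rel_walk hq.1 hq.2).2, walkAdd_prz w _ _ (hn q.1)] at h5
      have h6 := ih (fun p hp => hl p (by simp [hp]))
      simp only [foldC, foldX, dotM_xor, Nat.cast_add]
      generalize (pop (vk.getD q.1 0 &&& dm q.2) : ZMod 2) = a0 at h5 ⊢
      generalize (foldC l : ZMod 2) = a1 at h6 ⊢
      generalize dotM (w 0) (rowJ 0 q.2 (c.W.getD q.1 [])) = a2 at h5 ⊢
      generalize dotM (w 1) (rowJ 1 q.2 (c.W.getD q.1 [])) = a3 at h5 ⊢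
      generalize dotM (w 2) (rowJ 2 q.2 (c.W.getD q.1 [])) = a4 at h5 ⊢
      generalize dotM (w 0) (foldX 0 l) = a5 at h6 ⊢
      generalize dotM (w 1) (foldX 1 l) = a6 at h6 ⊢
      generalize dotM (w 2) (foldX 2 l) = a7 at h6 ⊢
      revert a0 a1 a2 a3 a4 a5 a6 a7
      decide
  have h5 := key S0 h0
  rw [h1, h2, h3, dotM_zero, dotM_zero, dotM_zero, add_zero, add_zero, add_zero] at h5
  have h6 : (foldC S0 : ZMod 2) = 1 := by
    rw [show (1 : ZMod 2) = ((1 : ℕ) : ZMod 2) from rfl]
    exact (ZMod.natCast_eq_natCast_iff' _ _ 2).2 (by rw [h4])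
  rw [h6] at h5
  exact one_ne_zero h5

/-- There is no complement. -/
theorem no_complement (H : Subgroup E) (h1 : H ⊓ N₀ = ⊥) : H ⊔ N₀ ≠ ⊤ := by
  intro h2
  -- the lifts in the complement
  have hex : ∀ j : ℕ, ∃ (h : E) (w : GolayPt → ZMod 2), h ∈ H ∧ (j < 3 → (h : Big) = Yb j * nb w) ∧ (3 ≤ j → h = 1) := by
    intro j
    by_cases hj : j < 3
    · have h3 : (YE j : E) ∈ ((H ⊔ N₀ : Subgroup E) : Set E) := by
        rw [h2]
        trivial
      rw [Subgroup.mul_normal] at h3
      obtain ⟨a, ha, n, ⟨w, hw⟩, hy⟩ := h3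
      refine ⟨a, w, ha, fun _ => ?_, fun h => absurd hj (by omega)⟩
      have h4 : (a : Big) * nb w = Yb j := by
        rw [← hw]
        exact congrArg Subtype.val hy
      rw [← h4, mul_assoc, nb_self, mul_one]
    · exact ⟨1, 0, one_mem _, fun h => absurd h hj, fun _ => rfl⟩
  choose yH wH hyH hy1 hy2 using hex
  -- the values of the relators
  have hprY : ∀ j, pr (yH j) = g j := by
    intro j
    by_cases hj : j < 3
    · show (yH j : Big).2 = g j
      rw [hy1 j hj]
      show (Yb j).2 * 1 = g j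
      rw [mul_one]
      exact pr_YE hj
    · rw [hy2 j (not_lt.1 hj), map_one, g_ge (not_lt.1 hj)]
  have hrelH : ∀ k < 14, wordEl (ltr yH) (c.W.getD k []) = 1 := by
    intro k hk
    have h3 : wordEl (ltr yH) (c.W.getD k []) ∈ H := by
      have : ∀ u : List ℕ, wordEl (ltr yH) u ∈ H := by
        intro u
        induction u with
        | nil => exact one_mem _
        | cons x u ih =>
          rw [wordEl_cons]
          refine mul_mem ih ?_
          unfold ltr
          split_ifs
          · exact hyH _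
          · exact inv_mem (hyH _)
      exact this _
    have h4 : pr (wordEl (ltr yH) (c.W.getD k [])) = 1 := by
      rw [map_wordEl_ltr, funext hprY]
      exact hrel k hk
    have h5 : wordEl (ltr yH) (c.W.getD k []) ∈ H ⊓ N₀ := ⟨h3, ker_pr h4⟩
    rw [h1] at h5
    exact h5
  -- the equations
  have hal : Along (ltr (fun j => (yH j : Big).1)) (fun i x => lb i x + prz wH i x) := by
    apply along_of
    · intro j hj
      rw [hy1 j hj]
      show (Yb j).1 * sp (1 : Equiv.Perm (Fin 1288)) (fun i => fw (wH j) i) = _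
      simp only [Yb, dif_pos hj]
      rw [sp_mul, mul_one]
      congr 1
      funext i
      simp only [Equiv.Perm.one_apply]
      rw [add_comm]
      congr 1
      unfold prz src
      have h7 : Nat.mod (2 * j) 2 = 0 := by
        show (2 * j) % 2 = 0
        omega
      have h8 : 2 * j / 2 = j := by omega
      rw [h7, h8]
      rfl
    · intro i hi x hx
      rw [lb_flp hi hx, prz_flp wH hi hx]
  refine no_solution wH ?_
  intro k hk i hi
  have h3 : ((wordEl (ltr yH) (c.W.getD k []) : E) : Big).1 = wordEl (ltr (fun j => (yH j : Big).1)) (c.W.getD k []) :=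
    map_wordEl_ltr ((MonoidHom.fst Mon G).comp E.subtype) yH _
  have h4 := (hal.word _ (hn k) ⟨i, hi⟩ 0).2
  rw [← h3, hrelH k hk] at h4
  simpa using h4.symm

end Cfsg.Agent.Lib.Compute.M23Ext
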