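import Cfsg.Agent.S2036

/-!
# Labels for central extensions of `M22` by groups of exponent two

The cascade for the multiplier of `M22` gives the values of all relations in the lifts of the generators.
-/

set_option autoImplicit false
set_option maxRecDepth 1000000

namespace Cfsg.Agent.Lib.Compute.M23Ext

open Cfsg Cfsg.Agent.Lib.Compute.SchurLin Cfsg.Agent.Lib.Compute.Schur2
open Cfsg.Agent.Lib.Compute.ToddCoxeterCore (wordEl wordEl_nil wordEl_cons wordEl_append)
open Cfsg.Agent.Lib.Compute.PermCert (allB allB_iff)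

universe u

/-- The data of a stem extension give labels, with the lifts of the generators. -/
theorem exists_cocy_Y {Γ G Ω : Type*} [Group Γ] [Group G] [MulAction G Ω] {σ : Γ →* G}
    (hstem : IsStemExtension σ) {g : ℕ → G} {ω : ℕ → Ω} {n N : ℕ} {t : ℕ → ℕ → ℕ} {par lt : ℕ → ℕ}
    (tab : Tab g ω n N t par lt) (hgenG : ∀ h : G, h ∈ Subgroup.closure (g '' Set.Iio n))
    {W : List (List ℕ)} (hletW : ∀ k, ∀ x ∈ W.getD k [], x < 2 * n)
    (hrelG : ∀ k, wordEl (ltr g) (W.getD k []) = 1)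
    (hexactW : ∀ k < n, ∃ C : List ℕ, W.getD k [] = C ++ [2 * k + 1])
    (hexpW : ∀ k < n, ∀ j < n, expV ((W.getD k []).dropLast) j = 0)
    (s : MulAction.stabilizer G (ω 0) →* Γ) (hs : ∀ l, σ (s l) = l) :
    ∃ (Y : ℕ → Γ) (z : ℕ → ℕ → σ.ker) (rr : ℕ → σ.ker), (∀ j, σ (Y j) = g j) ∧ Cocy t par lt n N W n z rr ∧
      ∀ w : List ℕ, (∀ x ∈ w, x < 2 * n) → ∀ i < N, walkEnd t i w = i →
        ∀ h : wordEl (ltr Y) w ∈ σ.ker, walkProd t z i w = ⟨wordEl (ltr Y) w, h⟩ := by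
  classical
  obtain ⟨hsurj, hc, hcomm⟩ := hstem
  have hC : ∀ j < n, wordEl (ltr g) ((W.getD j []).dropLast) = g j := by
    intro j hj
    obtain ⟨C, hCe⟩ := hexactW j hj
    have h1 := hrelG j
    rw [hCe, wordEl_append] at h1
    rw [hCe, List.dropLast_concat]
    have h2 : ltr g (2 * j + 1) = (g j)⁻¹ := by
      have h4 : (2 * j + 1) / 2 = j := by omega
      simp [ltr, h4]
    rw [wordEl_cons, wordEl_nil, one_mul, h2] at h1
    exact (inv_mul_eq_one.1 h1).symm
  have hletC : ∀ j < n, ∀ x ∈ (W.getD j []).dropLast, x < 2 * n :=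
    fun j _ x hx => hletW j x (List.mem_of_mem_dropLast hx)
  obtain ⟨Y, hY, hYC⟩ := exists_normalized σ hsurj hc hC hletC hexpW
  have hgY : (fun j => σ (Y j)) = g := funext hY
  have hgen : ∀ a : Γ, ∃ w : List ℕ, (∀ x ∈ w, x < 2 * n) ∧ wordEl (ltr Y) w = a := by
    apply gen_of_stem ⟨hsurj, hc, hcomm⟩
    rw [hgY]
    exact hgenG
  have tab' : Tab (fun j => σ (Y j)) ω n N t par lt := by
    rw [hgY]
    exact tab
  obtain ⟨z, h1, h2, h3, h4⟩ := exists_cocycle hc hgen tab' s hs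
  have hker : ∀ k, wordEl (ltr Y) (W.getD k []) ∈ σ.ker := by
    intro k
    rw [MonoidHom.mem_ker, map_wordEl_ltr, hgY]
    exact hrelG k
  refine ⟨Y, z, fun k => ⟨wordEl (ltr Y) (W.getD k []), hker k⟩, hY, ?_, h3⟩
  refine ⟨h2, h1, ?_, ?_, h4⟩
  · intro k hk
    apply Subtype.ext
    obtain ⟨C, hCe⟩ := hexactW k hk
    have h5 := hYC k hk
    rw [hCe, List.dropLast_concat] at h5
    show wordEl (ltr Y) (W.getD k []) = 1
    rw [hCe, wordEl_append, h5, wordEl_cons, wordEl_nil, one_mul]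
    have h4' : (2 * k + 1) / 2 = k := by omega
    simp [ltr, h4']
  · intro k i hi he
    exact h3 _ (hletW k) i hi he (hker k)

/-- The walks and the table. -/
theorem tab_walk {G Ω : Type*} [Group G] [MulAction G Ω] {g : ℕ → G} {ω : ℕ → Ω} {n N : ℕ} {t : ℕ → ℕ → ℕ}
    {par lt : ℕ → ℕ} (tab : Tab g ω n N t par lt) {w : List ℕ} (hw : ∀ x ∈ w, x < 2 * n) {i : ℕ} (hi : i < N) :
    walkEnd t i w < N ∧ wordEl (ltr g) w • ω i = ω (walkEnd t i w) := by
  induction w generalizing i with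
  | nil =>
    simp [walkEnd, hi]
  | cons x w ih =>
    have hx : x < 2 * n := hw x (by simp)
    obtain ⟨h1, h2⟩ := ih (fun y hy => hw y (by simp [hy])) (tab.hlt i hi x hx)
    refine ⟨h1, ?_⟩
    rw [wordEl_cons, mul_smul, tab.hact i hi x hx]
    exact h2

section UPx

open Cfsg.Agent.Lib.Compute.Schur2.UP

variable {c : UP} {B : Type*} [CommGroup B] {z : ℕ → ℕ → B} {rr : ℕ → B}

/-- The numbers on the edges, in the generator of the kernel. -/
noncomputable def ccOf (c : UP) (d : Tail) (u : ℕ) : ℕ :=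
  ∑ j ∈ Finset.range c.s, (d.beta.getD j []).headD 0 * c.lab j u

theorem yv_eq (hcc : Cocy c.t c.par c.lt c.n c.N c.W c.e z rr) (hm : ∀ a : B, a ^ c.M = 1) (hf : Facts c)
    {d : Tail} (hd : tailCheck c d = true) {g0 : List ℕ} (hg : d.gens = [g0]) {j0 : ℕ} (hj0 : j0 < c.s) :
    yv c z rr j0 = vval c z rr g0 ^ ((d.beta.getD j0 []).headD 0) := by
  simp only [tailCheck, Bool.and_eq_true, allB_iff] at hd
  obtain ⟨⟨h1, h2⟩, h3⟩ := hd
  have hR := rels_one hcc hm hf h1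
  rw [← vf_unit hj0]
  have h4 : vf c z rr (fun j => bif Nat.beq j j0 then 1 else 0) =
      vf c z rr (combo (d.beta.getD j0 []) (d.gens ++ d.Rlit)) := by
    refine vf_congr hm ?_
    intro j hj
    exact eqM_iff.mp (h3 j0 hj0 j hj)
  rw [h4, hg]
  generalize d.beta.getD j0 [] = cs
  cases cs with
  | nil =>
    have : combo [] ([g0] ++ d.Rlit) = fun _ => 0 := rfl
    rw [this, vf_zero]
    simp
  | cons a cs =>
    have : combo (a :: cs) ([g0] ++ d.Rlit) = fun j => a * g0.getD j 0 + combo cs d.Rlit j := rfl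
    rw [this, vf_add, vf_smul]
    have h5 := combo_mem (c := c) (z := z) (rr := rr) (⊥ : Subgroup B) cs d.Rlit (fun v hv => by
      rw [hR v hv]
      exact Subgroup.one_mem _)
    rw [Subgroup.mem_bot.mp h5, mul_one]
    rfl

theorem z_eq (hcc : Cocy c.t c.par c.lt c.n c.N c.W c.e z rr) (hm : ∀ a : B, a ^ c.M = 1) (hf : Facts c)
    {d : Tail} (hd : tailCheck c d = true) {g0 : List ℕ} (hg : d.gens = [g0]) {i x : ℕ} (hi : i < c.N)
    (hx : x < 2 * c.n) : z i x = vval c z rr g0 ^ ccOf c d (c.key i x) := by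
  rw [(all_eq hcc hm hf).1 i hi x hx, EE, vf, ccOf, ← Finset.prod_pow_eq_pow_sum]
  apply Finset.prod_congr rfl
  intro j hj
  rw [yv_eq hcc hm hf hd hg (Finset.mem_range.1 hj), pow_mul]

theorem walkProd_eq (hcc : Cocy c.t c.par c.lt c.n c.N c.W c.e z rr) (hm : ∀ a : B, a ^ c.M = 1) (hf : Facts c)
    {d : Tail} (hd : tailCheck c d = true) {g0 : List ℕ} (hg : d.gens = [g0]) {w : List ℕ}
    (hw : ∀ x ∈ w, x < 2 * c.n) {i : ℕ} (hi : i < c.N) :
    walkProd c.t z i w = vval c z rr g0 ^ walkSum c.t (Nat.mul 2 c.n) (ccOf c d) i w := by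
  induction w generalizing i with
  | nil => simp [walkProd, walkSum]
  | cons x w ih =>
    have hx := hw x List.mem_cons_self
    have hti := (hf.edge_parts hi hx).1
    simp only [walkProd, walkSum]
    rw [ih (fun y hy => hw y (List.mem_cons_of_mem _ hy)) hti, z_eq hcc hm hf hd hg hi hx, ← pow_add]
    congr 1
    exact Nat.add_comm _ _

end UPx

section Labels

variable {G Γ : Type} [Group G] [Finite G] [Group Γ] [Finite Γ] {g : ℕ → G} {L : Subgroup G} {D : ℕ}

/-- **The labels.** -/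
theorem labels_main (c : TC) (hf : TC.Sound.{0} c)
    (hrel : ∀ k < c.nrel, wordEl (ltr g) (c.W.getD k []) = 1)
    (hsub : ∀ k, c.nrel ≤ k → wordEl (ltr g) (c.W.getD k []) ∈ L)
    (hgen : ∀ h : G, h ∈ Subgroup.closure (g '' Set.Iio c.n))
    (hcard : Nat.card G = c.N * D) (hL : Nat.card L ≤ D)
    (u : UP) (hn : u.n = c.n) (hN : u.N = c.N) (ht : u.t = c.t) (hpar : u.par = c.par) (hlt : u.lt = c.lt)
    (hrelU : ∀ k < u.W.length, wordEl (ltr g) (u.W.getD k []) = 1)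
    (hnorm : normB u.n u.W = true)
    (he : u.e = u.n)
    (hu : u.check = true) (d : UP.Tail) (hd : UP.tailCheck u d = true) {g0 : List ℕ} (hg0 : d.gens = [g0])
    {σ : Γ →* G} (hstem : IsStemExtension σ) (s : L →* Γ) (hs : ∀ l, σ (s l) = l)
    (hm : ∀ a : σ.ker, a ^ u.M = 1) :
    ∃ (Y : ℕ → Γ) (e : σ.ker), (∀ j, σ (Y j) = g j) ∧ ∀ w : List ℕ, (∀ x ∈ w, x < 2 * u.n) →
      wordEl (ltr g) w = 1 → ∀ h : wordEl (ltr Y) w ∈ σ.ker,
        (⟨wordEl (ltr Y) w, h⟩ : σ.ker) = e ^ walkSum u.t (Nat.mul 2 u.n) (ccOf u d) 0 w := by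
  classical
  let _ : CommGroup σ.ker := kerComm hstem.2.1
  obtain ⟨tab, hLc⟩ := TC.tab_of_check hf hrel hsub hgen hcard hL
  have huf := UP.Facts.of_check hu
  set ω : ℕ → G ⧸ L := fun i => ((repOf g c.par c.lt i : G) : G ⧸ L) with hω
  have h0 : ω 0 = ((1 : G) : G ⧸ L) := by
    simp only [hω]
    rw [repOf_zero]
  have hstab : MulAction.stabilizer G (ω 0) = L := by
    rw [h0]
    exact MulAction.stabilizer_quotient L
  let s' : MulAction.stabilizer G (ω 0) →* Γ :=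
    s.comp (Subgroup.inclusion (le_of_eq hstab))
  have hs' : ∀ l, σ (s' l) = l := by
    intro l
    exact hs _
  have tab' : Tab g ω u.n u.N u.t u.par u.lt := by
    rw [hn, hN, ht, hpar, hlt]
    exact tab
  have hgen' : ∀ h : G, h ∈ Subgroup.closure (g '' Set.Iio u.n) := by
    rw [hn]
    exact hgen
  have hletW : ∀ k, ∀ x ∈ u.W.getD k [], x < 2 * u.n := huf.hW
  have hrelW : ∀ k, wordEl (ltr g) (u.W.getD k []) = 1 := by
    intro k
    by_cases hk : k < u.W.length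
    · exact hrelU k hk
    · rw [List.getD_eq_default _ _ (by omega)]
      rfl
  have hexact : ∀ k < u.n, ∃ C : List ℕ, u.W.getD k [] = C ++ [2 * k + 1] := by
    intro k hk
    obtain ⟨C, h1, _⟩ := normB_spec hnorm hk
    exact ⟨C, h1⟩
  have hexp : ∀ k < u.n, ∀ j < u.n, expV ((u.W.getD k []).dropLast) j = 0 := by
    intro k hk j hj
    obtain ⟨C, h1, h2⟩ := normB_spec hnorm hk
    rw [h1, List.dropLast_concat]
    exact h2 j hj
  obtain ⟨Y, z, rr, hY, hc, hw⟩ := exists_cocy_Y hstem tab' hgen' hletW hrelW hexact hexp s' hs'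
  have hc2 : Cocy u.t u.par u.lt u.n u.N u.W u.e z rr := by
    rw [he]
    exact hc
  refine ⟨Y, UP.vval u z rr g0, hY, ?_⟩
  intro w hwl hw1 h
  have hN0 : 0 < u.N := tab'.hN
  obtain ⟨h1, h2⟩ := tab_walk tab' hwl hN0
  rw [hw1, one_smul] at h2
  have h3 : walkEnd u.t 0 w = 0 := tab'.hinj _ h1 h2.symm
  rw [← hw w hwl 0 hN0 h3 h]
  exact walkProd_eq hc2 hm huf hd hg0 hwl hN0

end Labels

/-! ### The specialization to `M22` -/

/-- The group `M22`. -/
abbrev G22 : Type := Cfsg.Agent.S2036.G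

/-- The generators of `M22`. -/
noncomputable abbrev g22 : ℕ → G22 := Cfsg.Agent.S2036.g

open Cfsg.Agent.Lib.Compute.Schur2.M22 in
/-- The relators of the cascade. -/
theorem hrelU22 : ∀ k < u.W.length, wordEl (ltr g22) (u.W.getD k []) = 1 := by
  intro k hk
  have hWu : u.W = c.W.take 10 := rfl
  rw [hWu] at hk ⊢
  have hk1 : k < 10 := by
    rw [List.length_take] at hk
    omega
  have : (c.W.take 10).getD k [] = c.W.getD k [] := by
    simp only [List.getD_eq_getElem?_getD, List.getElem?_take, if_pos hk1]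
  rw [this]
  exact Cfsg.Agent.S2036.hrel k hk1

open Cfsg.Agent.Lib.Compute.Schur2.M22 in
/-- **Central extensions of `M22` by groups of exponent two.** -/
theorem m22_stem_labels {Q : Type} [Group Q] [Finite Q] {σ : Q →* G22} (hstem : IsStemExtension σ)
    (h2 : ∀ a : σ.ker, a ^ 2 = 1) :
    ∃ (Y : ℕ → Q) (e : σ.ker), (∀ j, σ (Y j) = g22 j) ∧ ∀ w : List ℕ, (∀ x ∈ w, x < 4) →
      wordEl (ltr g22) w = 1 → ∀ h : wordEl (ltr Y) w ∈ σ.ker,
        (⟨wordEl (ltr Y) w, h⟩ : σ.ker) = e ^ walkSum u.t (Nat.mul 2 u.n) (ccOf u d) 0 w := by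
  obtain ⟨s, hs⟩ := Cfsg.Agent.S2036.hsec Q σ hstem
  refine labels_main c sound Cfsg.Agent.S2036.hrel (fun _ hk => subL_mem hk) Cfsg.Agent.S2036.hgen
    Cfsg.Agent.S2036.hcard (subL_card_le hSB Cfsg.Agent.S2036.hrel) u rfl rfl rfl rfl rfl hrelU22 hnormU rfl
    upChk d tailChk rfl hstem s hs ?_
  intro a
  have h3 : u.M = 2 * 4032 := rfl
  rw [h3, pow_mul, h2, one_pow]

end Cfsg.Agent.Lib.Compute.M23Ext
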