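import Cfsg.Agent.Lib.Compute.M23Ext.Data
import Cfsg.Agent.Lib.Compute.Schur2.M22ChkA
import Cfsg.Agent.Lib.Compute.SchurPerm
import Cfsg.Agent.S2063
import Cfsg.Agent.Lib.Fusion.MathieuInH

/-!
# A presentation of `M23` over `M22`, and the table on the dodecads
-/

set_option autoImplicit false
set_option maxRecDepth 1000000

namespace Cfsg.Agent.Lib.Compute.M23Ext

open Cfsg Cfsg.Agent.Lib.Compute.SchurLin Cfsg.Agent.Lib.Compute.Schur2
open Cfsg.Agent.Lib.Compute.ToddCoxeterCore (wordEl wordEl_nil wordEl_cons wordEl_append)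
open Cfsg.Agent.Lib.Compute.Golay Cfsg.Agent.Lib.Compute.GolayFast
open Cfsg.Agent.Lib.Compute.M24 Cfsg.Agent.Lib.Compute.M24Enum Cfsg.Agent.Lib.Compute.M24Norm
open Cfsg.Agent.Lib.Compute.OutCert Cfsg.Agent.Lib.Compute.M24Out
open scoped Pointwise

theorem certChk : certB c eE 1890 270 eP rT 10 = true := by decide +kernel

theorem sound : TC.Sound.{0} c := sound_of_check certChk

theorem nestChk : nestB c M22.c mp = true := by decide +kernel

theorem hSB : SubBound.{0} c (M22.c.N * (M22In.c.N * 11)) := subBound_nest M22.sound M22.hSB nestChk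

theorem hval : ∀ x < 2 * 3, validL (gT.getD x idL) = true := by decide +kernel
theorem hinv : ∀ j < 3, mulL (gT.getD (2 * j) idL) (gT.getD (2 * j + 1) idL) = idL := by decide +kernel

theorem hmem : ∀ j < 3, ofL (gT.getD (2 * j) idL) ∈ Spor.M23 := by
  intro j hj
  have h1 : ∀ j < 3, inM24 (gT.getD (2 * j) idL) = true ∧ (gT.getD (2 * j) idL).getD 23 0 = 23 := by
    decide +kernel
  have hv := hval (2 * j) (by omega)
  rw [Cfsg.Agent.S2063.mem_M23_iff]
  refine ⟨mem_M24_of_inM24 (codes_ofL hv) (h1 j hj).1, ?_⟩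
  rw [ofL_apply hv (by norm_num), (h1 j hj).2]

/-- The group `M23`. -/
abbrev G : Type := ↥Spor.M23

/-- The generators. -/
noncomputable abbrev g : ℕ → G := gOf Spor.M23 gT

theorem hgen (h : G) : h ∈ Subgroup.closure (g '' Set.Iio c.n) :=
  closure_of_words hmem hval hinv Cfsg.Agent.S2063.gen_le (W := oldW) (by decide +kernel)
    Cfsg.Agent.S2063.gens_valid h

theorem hrelW : ∀ k < c.nrel, evalR gT (c.W.getD k []) = idL := by decide +kernel

theorem hrel : ∀ k < c.nrel, wordEl (ltr g) (c.W.getD k []) = 1 := fun k hk =>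
  wordEl_eq_one hmem hval hinv (sound.hW k) (hrelW k hk)

theorem card_G : Nat.card G = c.N * (M22.c.N * (M22In.c.N * 11)) := by
  have h1 := Cfsg.Agent.Lib.Fusion.MathieuInH.card_M23'
  have h2 : c.N * (M22.c.N * (M22In.c.N * 11)) = 2 ^ 7 * 79695 := rfl
  rw [h2]
  exact h1

/-- A group with the relators, generated by the letters, is not bigger than `M23`. -/
theorem card_le {X : Type} [Group X] [Finite X] {el : ℕ → X}
    (hr : ∀ k < c.nrel, wordEl (ltr el) (c.W.getD k []) = 1)
    (hg : ∀ x : X, x ∈ Subgroup.closure (el '' Set.Iio c.n)) : Nat.card X ≤ Nat.card G := by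
  rw [card_G]
  exact closure_card_le sound hSB hr hg

/-! ### The dodecads -/

theorem dt_lt : ∀ i < 1288, ∀ x < 2 * 3, dt i x < 1288 := by decide +kernel
theorem dt_flp : ∀ i < 1288, ∀ x < 2 * 3, dt (dt i x) (flp x) = i := by decide +kernel
theorem dpar_ok : ∀ i < 1288, i ≠ 0 → dpar i < i ∧ dlt i < 2 * 3 ∧ dt (dpar i) (dlt i) = i := by decide +kernel
theorem dm_lt : ∀ i < 1288, dm i < 2 ^ 24 := by decide +kernel
theorem dm_inj : ∀ i < 1288, dm i = dm 0 → i = 0 := by decide +kernel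
theorem dm_ev : ∀ i < 1288, ∀ j < 3, imgMask (gT.getD (2 * j) idL) (dm i) = dm (dt i (2 * j)) := by decide +kernel

/-- The dodecads as sets. -/
noncomputable def ω (i : ℕ) : Finset GolayPt := maskSupport (dm i)

theorem tab : Tab g ω 3 1288 dt dpar dlt :=
  tab_of_masks hmem hval (by norm_num) dt_lt dt_flp dpar_ok dm_lt dm_inj dm_ev

theorem dlab_flp : ∀ i < 1288, ∀ x < 2 * 3,
    dlab (Nat.add (Nat.mul (dt i x) 6) (flp x)) = dlab (Nat.add (Nat.mul i 6) x) := by decide +kernel

theorem dlab_lt : ∀ u < 1288 * 6, dlab u < 2 := by decide +kernel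

end Cfsg.Agent.Lib.Compute.M23Ext
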