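import Cfsg.Agent.Lib.Compute.M23Ext.Sign

/-!
# The relators on the dodecads
-/

set_option autoImplicit false
set_option maxRecDepth 1000000

namespace Cfsg.Agent.Lib.Compute.M23Ext

open Cfsg Cfsg.Agent.Lib.Compute.SchurLin Cfsg.Agent.Lib.Compute.Schur2
open Cfsg.Agent.Lib.Compute.Golay
open Cfsg.Agent.Lib.Compute.PermCert (allB allB_iff)

theorem relChk : allB (fun k => allB (fun i => Nat.beq (walkEndF dt i (c.W.getD k [])) i &&
    Nat.beq (Nat.mod (walkSumF dt 6 dlab i (c.W.getD k [])) 2) (Nat.mod (pop (Nat.land (vk.getD k 0) (dm i))) 2))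
    1288) 14 = true := by decide +kernel

theorem rel_walk {k i : ℕ} (hk : k < 14) (hi : i < 1288) :
    walkEnd dt i (c.W.getD k []) = i ∧
      ((walkSum dt 6 dlab i (c.W.getD k []) : ℕ) : ZMod 2) = (pop (vk.getD k 0 &&& dm i) : ZMod 2) := by
  have h1 := (allB_iff _ _).1 ((allB_iff _ _).1 relChk k hk) i hi
  simp only [Bool.and_eq_true] at h1
  obtain ⟨h2, h3⟩ := h1
  have h4 := Nat.eq_of_beq_eq_true h2
  have h5 := Nat.eq_of_beq_eq_true h3
  rw [walkEndF_eq] at h4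
  rw [walkSumF_eq] at h5
  refine ⟨h4, ?_⟩
  exact (ZMod.natCast_eq_natCast_iff' _ _ 2).2 h5

end Cfsg.Agent.Lib.Compute.M23Ext
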