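import Cfsg.Agent.Lib.Compute.M23Ext.Pres
import Cfsg.Agent.Lib.Compute.Schur2.Fast
import Cfsg.Agent.Lib.Compute.GolayDual

/-!
# Signed permutations of the dodecads, walks with values in the field of two elements
-/

set_option autoImplicit false
set_option maxRecDepth 1000000

namespace Cfsg.Agent.Lib.Compute.M23Ext

open Cfsg Cfsg.Agent.Lib.Compute.SchurLin Cfsg.Agent.Lib.Compute.Schur2
open Cfsg.Agent.Lib.Compute.ToddCoxeterCore (wordEl wordEl_nil wordEl_cons wordEl_append)
open Cfsg.Agent.Lib.Compute.Golay Cfsg.Agent.Lib.Compute.GolayFast Cfsg.Agent.Lib.Compute.GolayDual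
open Cfsg.Agent.Lib.Compute.M24 Cfsg.Agent.Lib.Compute.M24Enum Cfsg.Agent.Lib.Compute.M24Norm
open Cfsg.Agent.Lib.Compute.OutCert Cfsg.Agent.Lib.Compute.M24Out
open scoped Pointwise

/-! ### Signed permutations -/

section SP

variable {N : ℕ}

/-- A signed permutation. -/
def sp (π : Equiv.Perm (Fin N)) (f : Fin N → ZMod 2) : Equiv.Perm (Fin N × ZMod 2) where
  toFun q := (π q.1, q.2 + f q.1)
  invFun q := (π⁻¹ q.1, q.2 - f (π⁻¹ q.1))
  left_inv q := by simp
  right_inv q := by simp

theorem sp_apply (π : Equiv.Perm (Fin N)) (f : Fin N → ZMod 2) (i : Fin N) (s : ZMod 2) :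
    sp π f (i, s) = (π i, s + f i) := rfl

theorem sp_mul (π π' : Equiv.Perm (Fin N)) (f f' : Fin N → ZMod 2) :
    sp π f * sp π' f' = sp (π * π') (fun i => f' i + f (π' i)) := by
  ext q <;> simp [sp, Equiv.Perm.mul_apply, add_assoc]

theorem sp_inv (π : Equiv.Perm (Fin N)) (f : Fin N → ZMod 2) :
    (sp π f)⁻¹ = sp π⁻¹ (fun k => - f (π⁻¹ k)) := by
  apply Equiv.ext
  rintro ⟨i, s⟩
  show (sp π f).symm (i, s) = _
  show (π⁻¹ i, s - f (π⁻¹ i)) = (π⁻¹ i, s + - f (π⁻¹ i))
  rw [sub_eq_add_neg]

theorem sp_one : sp (1 : Equiv.Perm (Fin N)) 0 = 1 := by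
  apply Equiv.ext
  rintro ⟨i, s⟩
  simp [sp_apply]

theorem sp_eq_one_iff (f : Fin N → ZMod 2) : sp (1 : Equiv.Perm (Fin N)) f = 1 ↔ f = 0 := by
  constructor
  · intro h
    funext i
    have := congrArg (fun x : Equiv.Perm (Fin N × ZMod 2) => (x (i, 0)).2) h
    simpa [sp_apply] using this
  · rintro rfl
    exact sp_one

/-- Conjugating a change of signs. -/
theorem sp_conj (π : Equiv.Perm (Fin N)) (f h : Fin N → ZMod 2) :
    sp π f * sp 1 h * (sp π f)⁻¹ = sp 1 (fun k => h (π⁻¹ k)) := by
  rw [sp_inv, sp_mul, sp_mul]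
  have h1 : π * 1 * π⁻¹ = 1 := by group
  rw [h1]
  congr 1
  funext k
  simp only [Equiv.Perm.one_apply]
  abel

end SP

/-! ### The letters on the dodecads -/

/-- The permutation of the dodecads of a letter. -/
noncomputable def lP (x : ℕ) (hx : x < 6) : Equiv.Perm (Fin 1288) where
  toFun i := ⟨dt i x, dt_lt i i.2 x hx⟩
  invFun i := ⟨dt i (flp x), dt_lt i i.2 (flp x) (flp_lt hx)⟩
  left_inv i := Fin.ext (dt_flp i i.2 x hx)
  right_inv i := Fin.ext (by
    have := dt_flp i i.2 (flp x) (flp_lt hx)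
    rwa [flp_flp] at this)

theorem lP_apply {x : ℕ} (hx : x < 6) (i : Fin 1288) : ((lP x hx i : Fin 1288) : ℕ) = dt i x := rfl

theorem lP_inv_apply {x : ℕ} (hx : x < 6) (i : Fin 1288) : (((lP x hx)⁻¹ i : Fin 1288) : ℕ) = dt i (flp x) := rfl

/-- The numbers on the edges. -/
noncomputable def lb (i x : ℕ) : ZMod 2 := ((dlab (Nat.add (Nat.mul i 6) x) : ℕ) : ZMod 2)

theorem lb_flp {i x : ℕ} (hi : i < 1288) (hx : x < 6) : lb (dt i x) (flp x) = lb i x := by
  unfold lb
  rw [dlab_flp i hi x hx]

theorem flp_even (j : ℕ) : flp (2 * j) = 2 * j + 1 := by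
  unfold flp
  have : (2 * j) % 2 = 0 := by omega
  simp [this]

theorem flp_odd (j : ℕ) : flp (2 * j + 1) = 2 * j := by
  unfold flp
  have : (2 * j + 1) % 2 ≠ 0 := by omega
  simp [this]

theorem neg_z2 (a : ZMod 2) : - a = a := by
  revert a
  decide

theorem add_self_z2 (a : ZMod 2) : a + a = 0 := by
  revert a
  decide

/-- The sums along a walk. -/
noncomputable def walkAdd (ζ : ℕ → ℕ → ZMod 2) : ℕ → List ℕ → ZMod 2
  | _, [] => 0
  | i, x :: u => ζ i x + walkAdd ζ (dt i x) u

theorem walkAdd_add (ζ ζ' : ℕ → ℕ → ZMod 2) (i : ℕ) (w : List ℕ) :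
    walkAdd (fun i x => ζ i x + ζ' i x) i w = walkAdd ζ i w + walkAdd ζ' i w := by
  induction w generalizing i with
  | nil => simp [walkAdd]
  | cons x u ih =>
    simp only [walkAdd, ih]
    abel

theorem walkAdd_lb (i : ℕ) (w : List ℕ) : walkAdd lb i w = ((walkSum dt 6 dlab i w : ℕ) : ZMod 2) := by
  induction w generalizing i with
  | nil => simp [walkAdd, walkSum]
  | cons x u ih =>
    simp only [walkAdd, walkSum, ih]
    show lb i x + _ = ((dlab (Nat.add (Nat.mul i 6) x) + walkSum dt 6 dlab (dt i x) u : ℕ) : ZMod 2)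
    rw [Nat.cast_add]
    rfl

/-- A family of signed permutations along the table. -/
structure Along (A : ℕ → Equiv.Perm (Fin 1288 × ZMod 2)) (ζ : ℕ → ℕ → ZMod 2) : Prop where
  step : ∀ x (hx : x < 6) (i : Fin 1288) (s : ZMod 2), A x (i, s) = (lP x hx i, s + ζ i x)

theorem Along.word {A : ℕ → Equiv.Perm (Fin 1288 × ZMod 2)} {ζ : ℕ → ℕ → ZMod 2} (h : Along A ζ)
    (w : List ℕ) (hw : ∀ x ∈ w, x < 6) (i : Fin 1288) (s : ZMod 2) :
    (((wordEl A w (i, s)).1 : Fin 1288) : ℕ) = walkEnd dt i w ∧ (wordEl A w (i, s)).2 = s + walkAdd ζ i w := by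
  induction w generalizing i s with
  | nil => simp [walkEnd, walkAdd]
  | cons x u ih =>
    have hx : x < 6 := hw x (by simp)
    have hu : ∀ y ∈ u, y < 6 := fun y hy => hw y (by simp [hy])
    rw [wordEl_cons, Equiv.Perm.mul_apply, h.step x hx]
    obtain ⟨h1, h2⟩ := ih hu (lP x hx i) (s + ζ i x)
    refine ⟨?_, ?_⟩
    · rw [h1]
      rfl
    · rw [h2]
      simp only [walkAdd]
      rw [lP_apply, add_assoc]

/-! ### Pairings with masks -/

/-- The pairing with a mask. -/
noncomputable def dotM (w : GolayPt → ZMod 2) (M : ℕ) : ZMod 2 := ∑ p, maskWord M p * w p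

theorem dotM_xor (w : GolayPt → ZMod 2) (a b : ℕ) : dotM w (a ^^^ b) = dotM w a + dotM w b := by
  unfold dotM
  rw [maskWord_xor, ← Finset.sum_add_distrib]
  simp only [Pi.add_apply, add_mul]

theorem dotM_zero (w : GolayPt → ZMod 2) : dotM w 0 = 0 := by
  unfold dotM
  rw [maskWord_zero]
  simp

theorem dotM_add (w w' : GolayPt → ZMod 2) (a : ℕ) : dotM (w + w') a = dotM w a + dotM w' a := by
  unfold dotM
  rw [← Finset.sum_add_distrib]
  simp only [Pi.add_apply, mul_add]

theorem dotM_maskWord (v a : ℕ) : dotM (maskWord v) a = (pop (v &&& a) : ZMod 2) := by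
  unfold dotM
  rw [← sum_mul_maskWord]
  simp only [mul_comm]

/-- The pairing with a dodecad. -/
noncomputable def fw (w : GolayPt → ZMod 2) (i : ℕ) : ZMod 2 := ∑ p ∈ ω i, w p

theorem fw_eq_dotM (w : GolayPt → ZMod 2) (i : ℕ) : fw w i = dotM w (dm i) := by
  unfold fw dotM ω
  have : ∀ p, maskWord (dm i) p * w p = if p ∈ maskSupport (dm i) then w p else 0 := by
    intro p
    simp [maskWord, maskSupport]
  simp_rw [this]
  rw [Finset.sum_ite_mem, Finset.univ_inter]

theorem fw_add (w w' : GolayPt → ZMod 2) (i : ℕ) : fw (w + w') i = fw w i + fw w' i := by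
  rw [fw_eq_dotM, fw_eq_dotM, fw_eq_dotM, dotM_add]

theorem fw_zero (i : ℕ) : fw 0 i = 0 := by
  simp [fw]

theorem fw_comp {σ : Equiv.Perm GolayPt} {i k : ℕ} (h : σ • ω i = ω k) (w : GolayPt → ZMod 2) :
    fw (w ∘ ⇑(σ⁻¹)) k = fw w i := by
  unfold fw
  rw [← h, Finset.smul_finset_def, Finset.sum_image]
  · apply Finset.sum_congr rfl
    intro p _
    simp [Equiv.Perm.smul_def]
  · intro a _ b _ hab
    exact smul_left_cancel σ hab

/-! ### The kernel -/

theorem dm_code : ∀ i < 1288, isCode (dm i) = true := by decide +kernel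

theorem dm_none : ∀ i < 1288, (dm i).testBit 23 = false := by decide +kernel

/-- The words in the dodecads. -/
def rbCert : List (ℕ × List ℕ) := [(0, [1, 3, 8]), (0, [0, 1, 2, 3, 4, 7, 8, 10]), (0, [3, 5, 7, 8, 10, 12]),
  (0, [3, 8, 12]), (0, [0, 3, 4, 5, 6, 8, 12]), (0, [0, 2, 3, 4, 10]), (0, [0, 1, 3, 5, 6, 12]),
  (0, [0, 2, 4, 5, 6, 10, 12]), (0, [0, 1, 2, 5, 6, 12]), (0, [0, 1, 2, 8]), (0, [1, 3, 5, 6, 8]), (1, [0, 2, 6, 8])]

theorem rb_cert : ∀ b ∈ redBasis, ∃ q ∈ rbCert,
    b = q.2.foldr (fun i acc => dm i ^^^ acc) (bif Nat.beq q.1 1 then onesMask else 0) ∧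
      (∀ i ∈ q.2, i < 1288) := by
  decide +kernel

theorem dotM_none (i : ℕ) (hi : i < 1288) : dotM (Pi.single none 1) (dm i) = 0 := by
  rw [← fw_eq_dotM]
  unfold fw
  apply Finset.sum_eq_zero
  intro p hp
  have : p ≠ none := by
    rintro rfl
    have h1 : (dm i).testBit (ptIdx none) = true := by
      simpa [ω, maskSupport] using hp
    have h2 := dm_none i hi
    have h3 : ptIdx none = 23 := rfl
    rw [h3, h2] at h1
    cases h1
  simp [Pi.single_apply, this]

theorem dotM_ones (w : GolayPt → ZMod 2) : dotM w onesMask = ∑ p, w p := by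
  unfold dotM
  apply Finset.sum_congr rfl
  intro p _
  have : maskWord onesMask p = 1 := by
    have h := ones_eq
    rw [← h]
    rfl
  rw [this, one_mul]

theorem dotM_single_ones : dotM (Pi.single none 1) onesMask = 1 := by
  rw [dotM_ones]
  simp

theorem fw_of_code {w : GolayPt → ZMod 2} (hw : w ∈ golayCode) {i : ℕ} (hi : i < 1288) : fw w i = 0 := by
  rw [fw_eq_dotM]
  exact golay_orth _ (maskWord_mem_of_isCode (dm_code i hi)) _ hw

/-- Words orthogonal to the dodecads. -/
theorem fw_eq_zero_iff (w : GolayPt → ZMod 2) :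
    (∀ i < 1288, fw w i = 0) ↔ (w ∈ golayCode ∨ w + Pi.single none 1 ∈ golayCode) := by
  constructor
  · intro h
    -- a word orthogonal to the dodecads and to the word of ones is in the code
    have key : ∀ v : GolayPt → ZMod 2, (∀ i < 1288, dotM v (dm i) = 0) → dotM v onesMask = 0 → v ∈ golayCode := by
      intro v hv hv1
      apply golay_perp
      intro c hc
      rw [golayCode_eq_span] at hc
      induction hc using Submodule.span_induction with
      | mem x hx =>
        obtain ⟨b, hb, rfl⟩ := hx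
        obtain ⟨q, _, hq1, hq2⟩ := rb_cert b hb
        rw [hq1]
        show dotM v _ = 0
        have : ∀ L : List ℕ, (∀ i ∈ L, i < 1288) →
            dotM v (L.foldr (fun i acc => dm i ^^^ acc) (bif Nat.beq q.1 1 then onesMask else 0)) = 0 := by
          intro L hL
          induction L with
          | nil =>
            simp only [List.foldr_nil]
            cases Nat.beq q.1 1
            · exact dotM_zero v
            · exact hv1
          | cons a L ih =>
            simp only [List.foldr_cons]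
            rw [dotM_xor, hv a (hL a (by simp)), ih (fun i hi => hL i (by simp [hi])), add_zero]
        exact this q.2 hq2
      | zero => simp
      | add x y _ _ hx hy =>
        simp only [Pi.add_apply, add_mul]
        rw [Finset.sum_add_distrib, hx, hy, add_zero]
      | smul a x _ hx =>
        simp only [Pi.smul_apply, smul_eq_mul]
        have : ∀ p, a * x p * v p = a * (x p * v p) := fun p => by ring
        simp_rw [this]
        rw [← Finset.mul_sum, hx, mul_zero]
    by_cases h1 : dotM w onesMask = 0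
    · left
      exact key w (fun i hi => by rw [← fw_eq_dotM]; exact h i hi) h1
    · right
      apply key
      · intro i hi
        rw [dotM_add, dotM_none i hi, add_zero, ← fw_eq_dotM]
        exact h i hi
      · rw [dotM_add, dotM_single_ones]
        have h2 : dotM w onesMask = 1 := by
          revert h1
          generalize dotM w onesMask = a
          revert a
          decide
        rw [h2]
        rfl
  · rintro (h | h) i hi
    · exact fw_of_code h hi
    · have h1 := fw_of_code h hi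
      rw [fw_add] at h1
      have h2 : fw (Pi.single none 1) i = 0 := by
        rw [fw_eq_dotM]
        exact dotM_none i hi
      rwa [h2, add_zero] at h1

end Cfsg.Agent.Lib.Compute.M23Ext
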