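import Cfsg.Agent.Lib.Compute.M23Ext.Casc

/-!
# The solutions of the equations on the dodecads
-/

set_option autoImplicit false
set_option maxRecDepth 1000000

namespace Cfsg.Agent.Lib.Compute.M23Ext

open Cfsg Cfsg.Agent.Lib.Compute.SchurLin Cfsg.Agent.Lib.Compute.Schur2
open Cfsg.Agent.Lib.Compute.ToddCoxeterCore (wordEl wordEl_nil wordEl_cons wordEl_append frc frc_eq)
open Cfsg.Agent.Lib.Compute.Golay Cfsg.Agent.Lib.Compute.GolayFast Cfsg.Agent.Lib.Compute.GolayDual
open Cfsg.Agent.Lib.Compute.PermCert (allB allB_iff)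

/-- The sum along the tree. -/
noncomputable def tsum (ζ : ℕ → ℕ → ZMod 2) (i : ℕ) : ZMod 2 :=
  if h : i ≠ 0 ∧ dpar i < i then tsum ζ (dpar i) + ζ (dpar i) (dlt i) else 0
termination_by i
decreasing_by all_goals exact h.2

theorem tsum_zero (ζ : ℕ → ℕ → ZMod 2) : tsum ζ 0 = 0 := by
  rw [tsum]
  simp

theorem tsum_step (ζ : ℕ → ℕ → ZMod 2) {i : ℕ} (hi : i < 1288) (h0 : i ≠ 0) :
    tsum ζ i = tsum ζ (dpar i) + ζ (dpar i) (dlt i) := by
  rw [tsum, dif_pos ⟨h0, (dpar_ok i hi h0).1⟩]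

theorem walkAdd_delta (ζ : ℕ → ℕ → ZMod 2) (τ : ℕ → ZMod 2) (i : ℕ) (u : List ℕ) :
    walkAdd (fun i x => ζ i x + τ i + τ (dt i x)) i u = walkAdd ζ i u + τ i + τ (walkEnd dt i u) := by
  induction u generalizing i with
  | nil =>
    simp only [walkAdd, walkEnd, zero_add]
    exact (add_self_z2 _).symm
  | cons x u ih =>
    simp only [walkAdd, walkEnd, ih]
    linear_combination add_self_z2 (τ (dt i x))

theorem walkAdd_scale (ε : ZMod 2) (ζ : ℕ → ℕ → ZMod 2) (i : ℕ) (u : List ℕ) :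
    walkAdd (fun i x => ε * ζ i x) i u = ε * walkAdd ζ i u := by
  induction u generalizing i with
  | nil =>
    simp only [walkAdd, mul_zero]
  | cons x u ih =>
    simp only [walkAdd, ih]
    ring

theorem fw_smul (ε : ZMod 2) (w : GolayPt → ZMod 2) (i : ℕ) : fw (ε • w) i = ε * fw w i := by
  unfold fw
  rw [Finset.mul_sum]
  rfl

theorem lb_rel {k i : ℕ} (hk : k < 14) (hi : i < 1288) :
    walkAdd lb i (c.W.getD k []) = fw (maskWord (vk.getD k 0)) i := by
  rw [walkAdd_lb, (rel_walk hk hi).2, fw_eq_dotM, dotM_maskWord]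

/-- The changes of generators change the relators by elements of the normal subgroup. -/
theorem exists_fox (w : ℕ → GolayPt → ZMod 2) {k : ℕ} (hk : k < 14) :
    ∃ u : GolayPt → ZMod 2, ∀ i < 1288, walkAdd (prz w) i (c.W.getD k []) = fw u i := by
  let yy : ℕ → E := fun j => YE j * ⟨nb (w j), nb_mem _⟩
  have hpr : ∀ j, pr (yy j) = g j := by
    intro j
    show pr (YE j) * (nb (w j)).2 = g j
    rw [pr_YE']
    exact mul_one _
  have hal : Along (ltr (fun j => (yy j : Big).1)) (fun i x => lb i x + prz w i x) := by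
    apply along_of
    · intro j hj
      show (Yb j).1 * sp (1 : Equiv.Perm (Fin 1288)) (fun i => fw (w j) i) = _
      simp only [Yb, dif_pos hj]
      rw [sp_mul, mul_one]
      congr 1
      funext i
      simp only [Equiv.Perm.one_apply]
      rw [add_comm]
      congr 1
      unfold prz src
      have h7 : Nat.mod (2 * j) 2 = 0 := by
        show (2 * j) % 2 = 0
        omega
      have h8 : 2 * j / 2 = j := by omega
      rw [h7, h8]
      rfl
    · intro i hi x hx
      rw [lb_flp hi hx, prz_flp w hi hx]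
  have h4 : pr (wordEl (ltr yy) (c.W.getD k [])) = 1 := by
    rw [map_wordEl_ltr, funext hpr]
    exact hrel k hk
  obtain ⟨u, hu⟩ := ker_pr h4
  refine ⟨u + maskWord (vk.getD k 0), ?_⟩
  intro i hi
  have h3 : ((wordEl (ltr yy) (c.W.getD k []) : E) : Big).1 = wordEl (ltr (fun j => (yy j : Big).1)) (c.W.getD k []) :=
    map_wordEl_ltr ((MonoidHom.fst Mon G).comp E.subtype) yy _
  have h5 := (hal.word _ (hn k) ⟨i, hi⟩ 0).2
  rw [← h3, hu] at h5
  have h6 : (sp (1 : Equiv.Perm (Fin 1288)) (fun i => fw u i)) (⟨i, hi⟩, 0) = (⟨i, hi⟩, 0 + fw u i) := sp_apply _ _ _ _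
  have h7 : fw u i = walkAdd (fun i x => lb i x + prz w i x) i (c.W.getD k []) := by
    have h8 : (0 : ZMod 2) + fw u i = 0 + walkAdd (fun i x => lb i x + prz w i x) i (c.W.getD k []) := by
      rw [← h5]
      exact (congrArg Prod.snd h6).symm
    simpa using h8
  rw [walkAdd_add, lb_rel hk hi] at h7
  rw [fw_add, h7]
  linear_combination - add_self_z2 (fw (maskWord (vk.getD k 0)) i)

theorem lp_closed : ∀ r < 23, walkEnd dt 0 (lpW.getD r []) = 0 := by
  have h : allB (fun r => Nat.beq (walkEndF dt 0 (lpW.getD r [])) 0) 23 = true := by decide +kernel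
  intro r hr
  have h1 := Nat.eq_of_beq_eq_true ((allB_iff _ _).1 h r hr)
  rwa [walkEndF_eq] at h1

/-- The words dual to the walks. -/
theorem dual_chk : allB (fun s => allB (fun r =>
    Nat.beq (Nat.mod (Nat.add (Nat.mul (epsL.getD s 0) (walkSumF dt 6 dlab 0 (lpW.getD r [])))
      (Nat.add (pop (Nat.land (wmE s 0) (rowJ 0 0 (lpW.getD r []))))
        (Nat.add (pop (Nat.land (wmE s 1) (rowJ 1 0 (lpW.getD r []))))
          (pop (Nat.land (wmE s 2) (rowJ 2 0 (lpW.getD r [])))))) ) 2) (bif Nat.beq s r then 1 else 0)) 23) 23 = true := by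
  decide +kernel

/-- The words made from the values on the walks. -/
noncomputable def wOf (a : ℕ → ZMod 2) (j : ℕ) : GolayPt → ZMod 2 :=
  ∑ s ∈ Finset.range 23, a s • maskWord (wmE s j)

theorem dotM_wOf (a : ℕ → ZMod 2) (j M : ℕ) :
    dotM (wOf a j) M = ∑ s ∈ Finset.range 23, a s * (pop (wmE s j &&& M) : ZMod 2) := by
  simp_rw [← dotM_maskWord]
  unfold dotM wOf
  simp only [Finset.sum_apply, Pi.smul_apply, smul_eq_mul, Finset.mul_sum]
  rw [Finset.sum_comm]
  apply Finset.sum_congr rfl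
  intro s _
  apply Finset.sum_congr rfl
  intro p _
  ring

theorem dual_eq (a : ℕ → ZMod 2) {r : ℕ} (hr : r < 23) :
    (∑ s ∈ Finset.range 23, a s * (epsL.getD s 0 : ZMod 2)) * ((walkSum dt 6 dlab 0 (lpW.getD r []) : ℕ) : ZMod 2) +
      (dotM (wOf a 0) (rowJ 0 0 (lpW.getD r [])) + dotM (wOf a 1) (rowJ 1 0 (lpW.getD r [])) +
        dotM (wOf a 2) (rowJ 2 0 (lpW.getD r []))) = a r := by
  rw [dotM_wOf, dotM_wOf, dotM_wOf, Finset.sum_mul, ← Finset.sum_add_distrib, ← Finset.sum_add_distrib,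
    ← Finset.sum_add_distrib]
  have h1 : ∀ s ∈ Finset.range 23,
      a s * (epsL.getD s 0 : ZMod 2) * ((walkSum dt 6 dlab 0 (lpW.getD r []) : ℕ) : ZMod 2) +
        (a s * (pop (wmE s 0 &&& rowJ 0 0 (lpW.getD r [])) : ZMod 2) +
          a s * (pop (wmE s 1 &&& rowJ 1 0 (lpW.getD r [])) : ZMod 2) +
          a s * (pop (wmE s 2 &&& rowJ 2 0 (lpW.getD r [])) : ZMod 2)) = if s = r then a s else 0 := by
    intro s hs
    have hs' := Finset.mem_range.1 hs
    have h2 := Nat.eq_of_beq_eq_true ((allB_iff _ _).1 ((allB_iff _ _).1 dual_chk s hs') r hr)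
    rw [walkSumF_eq] at h2
    have h3 := congrArg (fun n : ℕ => (n : ZMod 2)) h2
    have h4 : ∀ n : ℕ, ((Nat.mod n 2 : ℕ) : ZMod 2) = (n : ZMod 2) := fun n => ZMod.natCast_mod n 2
    rw [h4] at h3
    have h5 : ((Nat.add (Nat.mul (epsL.getD s 0) (walkSum dt 6 dlab 0 (lpW.getD r [])))
        (Nat.add (pop (Nat.land (wmE s 0) (rowJ 0 0 (lpW.getD r []))))
          (Nat.add (pop (Nat.land (wmE s 1) (rowJ 1 0 (lpW.getD r []))))
            (pop (Nat.land (wmE s 2) (rowJ 2 0 (lpW.getD r []))))))) : ℕ) =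
        epsL.getD s 0 * walkSum dt 6 dlab 0 (lpW.getD r []) +
          (pop (wmE s 0 &&& rowJ 0 0 (lpW.getD r [])) +
            (pop (wmE s 1 &&& rowJ 1 0 (lpW.getD r [])) + pop (wmE s 2 &&& rowJ 2 0 (lpW.getD r [])))) := rfl
    rw [h5] at h3
    push_cast at h3
    by_cases hsr : s = r
    · subst hsr
      rw [if_pos rfl]
      rw [show Nat.beq s s = true by rw [Nat.beq_eq], cond_true, Nat.cast_one] at h3
      linear_combination (a s) * h3
    · rw [if_neg hsr]
      rw [show Nat.beq s r = false by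
        cases h' : Nat.beq s r with
        | false => rfl
        | true => exact absurd (Nat.eq_of_beq_eq_true h') hsr, cond_false, Nat.cast_zero] at h3
      linear_combination (a s) * h3
  rw [Finset.sum_congr rfl h1, Finset.sum_ite_eq' (Finset.range 23) r a, if_pos (Finset.mem_range.2 hr)]

/-- **The solutions.** -/
theorem solve (d : ℕ → ℕ → ZMod 2) (v : ℕ → GolayPt → ZMod 2)
    (hf : ∀ i < 1288, ∀ x < 6, d (dt i x) (flp x) = d i x)
    (hr : ∀ k < 14, ∀ i < 1288, walkAdd d i (c.W.getD k []) = fw (v k) i) :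
    ∃ (ε : ZMod 2) (w : ℕ → GolayPt → ZMod 2) (τ : ℕ → ZMod 2), ∀ i < 1288, ∀ x < 6,
      d i x + prz w i x = ε * lb i x + τ i + τ (dt i x) := by
  let a : ℕ → ZMod 2 := fun s => walkAdd d 0 (lpW.getD s [])
  let ε : ZMod 2 := ∑ s ∈ Finset.range 23, a s * (epsL.getD s 0 : ZMod 2)
  let w : ℕ → GolayPt → ZMod 2 := wOf a
  let d2 : ℕ → ℕ → ZMod 2 := fun i x => d i x + (ε * lb i x + prz w i x)
  let τ : ℕ → ZMod 2 := tsum d2
  let D : ℕ → ℕ → ZMod 2 := fun i x => d2 i x + τ i + τ (dt i x)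
  have hd2 : ∀ i u, walkAdd d2 i u = walkAdd d i u + (ε * walkAdd lb i u + walkAdd (prz w) i u) := by
    intro i u
    show walkAdd (fun i x => d i x + (ε * lb i x + prz w i x)) i u = _
    rw [walkAdd_add, walkAdd_add, walkAdd_scale]
  have hDclosed : ∀ i u, walkEnd dt i u = i → walkAdd D i u = walkAdd d2 i u := by
    intro i u h
    show walkAdd (fun i x => d2 i x + τ i + τ (dt i x)) i u = _
    rw [walkAdd_delta, h]
    linear_combination add_self_z2 (τ i)
  -- the values of the relators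
  have hfx : ∀ k, ∃ u : GolayPt → ZMod 2, k < 14 → ∀ i < 1288, walkAdd (prz w) i (c.W.getD k []) = fw u i := by
    intro k
    by_cases hk : k < 14
    · obtain ⟨u, hu⟩ := exists_fox w hk
      exact ⟨u, fun _ => hu⟩
    · exact ⟨0, fun h => absurd h hk⟩
  choose u hu using hfx
  have hzero := casc_zero D (fun k => v k + (ε • maskWord (vk.getD k 0) + u k))
    (by
      intro i hi h0
      obtain ⟨h1, h2, h3⟩ := dpar_ok i hi h0
      show d2 (dpar i) (dlt i) + τ (dpar i) + τ (dt (dpar i) (dlt i)) = 0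
      rw [h3]
      show d2 (dpar i) (dlt i) + τ (dpar i) + tsum d2 i = 0
      rw [tsum_step d2 hi h0]
      show d2 (dpar i) (dlt i) + tsum d2 (dpar i) + (tsum d2 (dpar i) + d2 (dpar i) (dlt i)) = 0
      linear_combination add_self_z2 (tsum d2 (dpar i)) + add_self_z2 (d2 (dpar i) (dlt i)))
    (by
      intro i hi x hx
      show d2 (dt i x) (flp x) + τ (dt i x) + τ (dt (dt i x) (flp x)) = d2 i x + τ i + τ (dt i x)
      rw [dt_flp i hi x hx]
      have h1 : d2 (dt i x) (flp x) = d2 i x := by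
        show d (dt i x) (flp x) + (ε * lb (dt i x) (flp x) + prz w (dt i x) (flp x)) = _
        rw [hf i hi x hx, lb_flp hi hx, prz_flp w hi hx]
      rw [h1]
      ring)
    (by
      intro k hk i hi
      rw [hDclosed i _ (rel_walk hk hi).1, hd2, hr k hk i hi, lb_rel hk hi, hu k hk i hi, fw_add, fw_add, fw_smul])
    (by
      intro s hs
      rw [hDclosed 0 _ (lp_closed s hs), hd2, walkAdd_lb]
      have hlet : ∀ x ∈ lpW.getD s [], x < 6 := by
        have := wx_letters (s + 14) (by omega)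
        rwa [wx_ge (by omega), show s + 14 - 14 = s by omega] at this
      rw [walkAdd_prz w 0 _ hlet]
      have h1 : ε * ((walkSum dt 6 dlab 0 (lpW.getD s []) : ℕ) : ZMod 2) +
          (dotM (w 0) (rowJ 0 0 (lpW.getD s [])) + dotM (w 1) (rowJ 1 0 (lpW.getD s [])) +
            dotM (w 2) (rowJ 2 0 (lpW.getD s []))) = a s := dual_eq a hs
      rw [h1]
      exact add_self_z2 _)
  refine ⟨ε, w, τ, ?_⟩
  intro i hi x hx
  have h1 : d i x + (ε * lb i x + prz w i x) + τ i + τ (dt i x) = 0 := hzero i hi x hx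
  generalize d i x = a0 at h1 ⊢
  generalize ε * lb i x = a1 at h1 ⊢
  generalize prz w i x = a2 at h1 ⊢
  generalize τ i = a3 at h1 ⊢
  generalize τ (dt i x) = a4 at h1 ⊢
  revert a0 a1 a2 a3 a4
  decide

end Cfsg.Agent.Lib.Compute.M23Ext
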