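import Cfsg.Agent.Lib.Compute.M23Ext.TwoData

/-!
# The linear algebra for the extensions of `M23` by the code module
-/

set_option autoImplicit false
set_option maxRecDepth 1000000

namespace Cfsg.Agent.Lib.Compute.M23Ext

open Cfsg Cfsg.Agent.Lib.Compute.SchurLin Cfsg.Agent.Lib.Compute.Schur2
open Cfsg.Agent.Lib.Compute.ToddCoxeterCore (wordEl wordEl_nil wordEl_cons wordEl_append frc frc_eq)
open Cfsg.Agent.Lib.Compute.Golay Cfsg.Agent.Lib.Compute.GolayFast Cfsg.Agent.Lib.Compute.GolayDual
open Cfsg.Agent.Lib.Compute.M24 Cfsg.Agent.Lib.Compute.M24Enum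
open Cfsg.Agent.Lib.Compute.PermCert (allB allB_iff)

/-! ### The table of the parities on `M22` -/

/-- The numbers of the cascade of `M22`, explicitly. -/
noncomputable def cc7 (k : ℕ) : ℕ :=
  Nat.add (Nat.mul 2966 (M22.u.lab 0 k)) (Nat.add (Nat.mul 2596 (M22.u.lab 1 k)) (Nat.add (Nat.mul 3375 (M22.u.lab 2 k))
    (Nat.add (Nat.mul 2418 (M22.u.lab 3 k)) (Nat.add (Nat.mul 1666 (M22.u.lab 4 k)) (Nat.mul 8061 (M22.u.lab 5 k))))))

theorem ccOf_eq (k : ℕ) : ccOf M22.u M22.d k = cc7 k := by
  show ∑ j ∈ Finset.range 7, (M22.d.beta.getD j []).headD 0 * M22.u.lab j k = _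
  simp only [Finset.sum_range_succ, Finset.sum_range_zero]
  show 0 + 2966 * M22.u.lab 0 k + 2596 * M22.u.lab 1 k + 3375 * M22.u.lab 2 k + 2418 * M22.u.lab 3 k +
    1666 * M22.u.lab 4 k + 8061 * M22.u.lab 5 k + 0 * M22.u.lab 6 k = 2966 * M22.u.lab 0 k + (2596 * M22.u.lab 1 k +
      (3375 * M22.u.lab 2 k + (2418 * M22.u.lab 3 k + (1666 * M22.u.lab 4 k + 8061 * M22.u.lab 5 k))))
  omega

theorem c2_chk : allB (fun k => Nat.beq (Nat.mod (cc7 k) 2) (c2E k)) 32256 = true := by decide +kernel

theorem c2E_eq {k : ℕ} (hk : k < 32256) : ccOf M22.u M22.d k % 2 = c2E k % 2 := by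
  have h := Nat.eq_of_beq_eq_true ((allB_iff _ _).1 c2_chk k hk)
  rw [ccOf_eq, ← h]
  exact (Nat.mod_mod _ _).symm

theorem walkSum_par {w : List ℕ} (hw : ∀ x ∈ w, x < 4) {i : ℕ} (hi : i < 8064) :
    walkSum M22.u.t (Nat.mul 2 M22.u.n) (ccOf M22.u M22.d) i w % 2 = walkSum M22.c.t 4 c2E i w % 2 := by
  induction w generalizing i with
  | nil => rfl
  | cons x w ih =>
    have hx : x < 4 := hw x (by simp)
    have hti : M22.c.t i x < 8064 := M22.sound.hlt i hi x hx
    have h1 := ih (fun y hy => hw y (by simp [hy])) hti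
    have h2 : walkSum M22.u.t (Nat.mul 2 M22.u.n) (ccOf M22.u M22.d) i (x :: w) =
        ccOf M22.u M22.d (i * 4 + x) + walkSum M22.u.t (Nat.mul 2 M22.u.n) (ccOf M22.u M22.d) (M22.c.t i x) w := rfl
    have h3 : walkSum M22.c.t 4 c2E i (x :: w) = c2E (i * 4 + x) + walkSum M22.c.t 4 c2E (M22.c.t i x) w := rfl
    rw [h2, h3, Nat.add_mod, h1, c2E_eq (by omega), ← Nat.add_mod]

/-- **Central extensions of `M22` by groups of exponent two**, in general. -/
theorem m22_labels {Q : Type} [Group Q] [Finite Q] (σ : Q →* G22) (hs : Function.Surjective σ)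
    (hc : σ.ker ≤ Subgroup.center Q) (h2 : ∀ a ∈ σ.ker, a ^ 2 = 1) :
    ∃ (Y : ℕ → Q) (e : Q), (∀ j, σ (Y j) = g22 j) ∧ e ∈ σ.ker ∧ ∀ w : List ℕ, (∀ x ∈ w, x < 4) →
      wordEl (ltr g22) w = 1 → wordEl (ltr Y) w = e ^ walkSum M22.c.t 4 c2E 0 w := by
  let D : Subgroup Q := commutator Q
  have hmap : D.map σ = ⊤ := by
    have h1 : D.map σ = commutator G22 := by
      show (commutator Q).map σ = _
      rw [commutator_def, Subgroup.map_commutator, Subgroup.map_top_of_surjective σ hs, ← commutator_def]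
    rw [h1]
    exact Cfsg.Agent.S2036.hperf
  let τ : D →* G22 := σ.comp D.subtype
  have hτs : Function.Surjective τ := by
    intro l
    have h1 : l ∈ D.map σ := by
      rw [hmap]
      trivial
    obtain ⟨d, hd, rfl⟩ := h1
    exact ⟨⟨d, hd⟩, rfl⟩
  have hdec : ∀ e : Q, ∃ d ∈ D, ∃ z ∈ σ.ker, e = d * z := by
    intro e
    obtain ⟨d, hd⟩ := hτs (σ e)
    refine ⟨d, d.2, (d : Q)⁻¹ * e, ?_, by group⟩
    rw [MonoidHom.mem_ker, map_mul, map_inv]
    have : σ (d : Q) = σ e := hd
    rw [this, inv_mul_cancel]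
  have hDD : D ≤ ⁅D, D⁆ := by
    show commutator Q ≤ _
    rw [commutator_def, Subgroup.commutator_le]
    intro a _ b _
    obtain ⟨d, hd, z, hz, rfl⟩ := hdec a
    obtain ⟨f, hf, y, hy, rfl⟩ := hdec b
    rw [commutatorElement_def, comm_central_mul d f z y (hc hz) (hc hy)]
    have h5 := Subgroup.commutator_mem_commutator hd hf
    rwa [commutatorElement_def] at h5
  have hstem : IsStemExtension τ := by
    refine ⟨hτs, ?_, ?_⟩
    · intro x hx
      have h1 : σ (x : Q) = 1 := hx
      have h3 := Subgroup.mem_center_iff.mp (hc (MonoidHom.mem_ker.mpr h1))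
      rw [Subgroup.mem_center_iff]
      intro y
      apply Subtype.ext
      exact h3 y
    · have h1 : commutator D = ⊤ := by
        apply Subgroup.map_injective D.subtype_injective
        rw [Subgroup.map_subtype_commutator]
        ext x
        simp only [Subgroup.mem_map, Subgroup.mem_top, true_and, Subgroup.subtype_apply]
        constructor
        · intro hx
          exact ⟨⟨x, comm_le_self D hx⟩, rfl⟩
        · rintro ⟨y, rfl⟩
          exact hDD y.2
      rw [h1]
      exact le_top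
  have h2' : ∀ a : τ.ker, a ^ 2 = 1 := by
    intro a
    apply Subtype.ext
    apply Subtype.ext
    exact h2 _ a.2
  obtain ⟨Y, e, hY, hw⟩ := m22_stem_labels hstem h2'
  have he : ((e : D) : Q) ∈ σ.ker := e.2
  refine ⟨fun j => (Y j : Q), ((e : D) : Q), hY, he, ?_⟩
  intro w hwl hw1
  have h3 : wordEl (ltr Y) w ∈ τ.ker := by
    rw [MonoidHom.mem_ker, map_wordEl_ltr, funext hY]
    exact hw1
  have h4 := hw w hwl hw1 h3
  have h5 : wordEl (ltr (fun j => (Y j : Q))) w = ((wordEl (ltr Y) w : D) : Q) :=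
    (map_wordEl_ltr D.subtype Y w).symm
  rw [h5]
  have h6 : ((wordEl (ltr Y) w : D) : Q) = (((⟨wordEl (ltr Y) w, h3⟩ : τ.ker) : D) : Q) := rfl
  rw [h6, h4]
  have h7 : (((e ^ walkSum M22.u.t (Nat.mul 2 M22.u.n) (ccOf M22.u M22.d) 0 w : τ.ker) : D) : Q) =
      ((e : D) : Q) ^ walkSum M22.u.t (Nat.mul 2 M22.u.n) (ccOf M22.u M22.d) 0 w := rfl
  rw [h7]
  have h8 : ((e : D) : Q) ^ 2 = 1 := h2 _ he
  rw [pow_eq_pow_mod _ h8, walkSum_par hwl (by norm_num), ← pow_eq_pow_mod _ h8]

/-! ### The table on the points -/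

theorem pt_chk : ∀ p < 23, ∀ x < 6, pt p x < 23 ∧ pt (pt p x) (flp x) = p := by decide +kernel

theorem pt_lt {p x : ℕ} (hp : p < 23) (hx : x < 6) : pt p x < 23 := (pt_chk p hp x hx).1

theorem pt_flp {p x : ℕ} (hp : p < 23) (hx : x < 6) : pt (pt p x) (flp x) = p := (pt_chk p hp x hx).2

/-- The word of an edge on the points. -/
noncomputable def wwE (p x : ℕ) : List ℕ := wwL.getD (Nat.add (Nat.mul p 6) x) []

/-- The words of the edges along a walk. -/
noncomputable def wT (p : ℕ) (u : List ℕ) : List ℕ :=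
  List.rec (motive := fun _ => ℕ → List ℕ) (fun _ => [])
    (fun x _ ih p => frc (pt p x) fun q => wwE p x ++ ih q) u p

theorem wT_nil (p : ℕ) : wT p [] = [] := rfl

theorem wT_cons (p x : ℕ) (u : List ℕ) : wT p (x :: u) = wwE p x ++ wT (pt p x) u := by
  show frc (pt p x) (fun q => wwE p x ++ wT q u) = _
  rw [frc_eq]

/-- The sums along a walk on the points. -/
noncomputable def wkAdd (ζ : ℕ → ℕ → ZMod 2) : ℕ → List ℕ → ZMod 2
  | _, [] => 0
  | p, x :: u => ζ p x + wkAdd ζ (pt p x) u

/-- The end of a walk on the points. -/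
noncomputable def wkEnd (p : ℕ) (u : List ℕ) : ℕ := walkEnd pt p u

/-- The sum of the unknowns. -/
noncomputable def ev7 (σ : ℕ → ZMod 2) (m : ℕ) : ZMod 2 :=
  ∑ j ∈ Finset.range 70, if m.testBit j then σ j else 0

theorem ev7_xor (σ : ℕ → ZMod 2) (a b : ℕ) : ev7 σ (a ^^^ b) = ev7 σ a + ev7 σ b := by
  unfold ev7
  rw [← Finset.sum_add_distrib]
  apply Finset.sum_congr rfl
  intro j _
  rw [Nat.testBit_xor]
  cases a.testBit j <;> cases b.testBit j <;> simp [add_self_z2]

theorem ev7_zero (σ : ℕ → ZMod 2) : ev7 σ 0 = 0 := by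
  simp [ev7]

theorem ev7_pow (σ : ℕ → ZMod 2) {j : ℕ} (hj : j < 70) : ev7 σ (2 ^ j) = σ j := by
  unfold ev7
  rw [Finset.sum_eq_single j]
  · simp [Nat.testBit_two_pow_self]
  · intro b _ hb
    rw [Nat.testBit_two_pow_of_ne (Ne.symm hb)]
    simp
  · intro h
    exact absurd (Finset.mem_range.2 hj) h

/-- The number of the unknown of an edge. -/
noncomputable def ebit (p x : ℕ) : ℕ :=
  bif Nat.beq (Nat.mod x 2) 0 then Nat.add (Nat.mul (Nat.div x 2) 23) p
  else Nat.add (Nat.mul (Nat.div x 2) 23) (pt p x)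

/-- The mask of the unknowns along a walk. -/
noncomputable def wkM (p : ℕ) (u : List ℕ) : ℕ :=
  List.rec (motive := fun _ => ℕ → ℕ) (fun _ => 0)
    (fun x _ ih p => Nat.xor (Nat.pow 2 (ebit p x)) (frc (pt p x) ih)) u p

theorem wkM_nil (p : ℕ) : wkM p [] = 0 := rfl

theorem wkM_cons (p x : ℕ) (u : List ℕ) : wkM p (x :: u) = 2 ^ ebit p x ^^^ wkM (pt p x) u := by
  show Nat.xor _ (frc (pt p x) (fun q => wkM q u)) = _
  rw [frc_eq]
  rfl

/-- The sum of the parities of a walk. -/
noncomputable def xiN (p : ℕ) (u : List ℕ) : ℕ := walkSumF M22.c.t 4 c2E 0 (wT p u)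

/-- The mask of an equation. -/
noncomputable def rowR (u : List ℕ) (U : ℕ) : ℕ → ℕ
  | 0 => 0
  | n + 1 => Nat.xor (bif U.testBit n then Nat.xor (wkM n u) (Nat.mul (Nat.mod (xiN n u) 2) (Nat.pow 2 69)) else 0)
      (rowR u U n)

theorem row_chk : allB (fun r => Nat.beq (rowR (c.W.getD (rkL.getD r 0) []) (ubL.getD (ruL.getD r 0) 0) 23) (rwE r)) 26
    = true := by decide +kernel

theorem row_idx : ∀ r < 26, rkL.getD r 0 < 14 ∧ ruL.getD r 0 < 12 := by decide +kernel

/-- A combination of the equations. -/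
noncomputable def foldS (m : ℕ) : ℕ → ℕ
  | 0 => 0
  | n + 1 => Nat.xor (bif m.testBit n then rwE n else 0) (foldS m n)

theorem cmb_chk2 : allB (fun b => Nat.beq (foldS (cbE b) 26) (Nat.xor (Nat.pow 2 b) (fmE b))) 70 = true := by
  decide +kernel

/-- The check of a basic solution. -/
noncomputable def solB (b f : ℕ) : Bool :=
  frc (Nat.div b 23) fun j => frc (Nat.mod b 23) fun p => frc (pt p (Nat.mul 2 j)) fun q =>
    (fmE b).testBit f == (xor (xor ((msE f).testBit p) ((msE f).testBit q)) ((vsE f j).testBit q))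

theorem sol_chk : allB (fun b => allB (solB b) 70) 69 = true := by decide +kernel

theorem fm69 : fmE 69 = 0 := by decide +kernel

theorem vs_code : allB (fun f => allB (fun j => isCode (vsE f j) && !((vsE f j).testBit 23)) 3) 70 = true := by
  decide +kernel

set_option maxHeartbeats 2000000 in
/-- **The solutions of the equations.** -/
theorem solve2 (d : ℕ → ℕ → ZMod 2) (ε : ZMod 2)
    (hf : ∀ p < 23, ∀ x < 6, d (pt p x) (flp x) = d p x)
    (hrow : ∀ k < 14, ∀ ui < 12, ∑ q ∈ Finset.range 23,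
      (if (ubL.getD ui 0).testBit q then ε * (xiN q (c.W.getD k []) : ZMod 2) + wkAdd d q (c.W.getD k []) else 0) = 0) :
    ε = 0 ∧ ∃ (M : ℕ → ZMod 2) (V : ℕ → GolayPt → ZMod 2), (∀ j < 3, V j ∈ golayCode ∧ V j none = 0) ∧
      ∀ j < 3, ∀ p < 23, d p (2 * j) = M p + M (pt p (2 * j)) + V j (idxPt (pt p (2 * j))) := by
  let σ : ℕ → ZMod 2 := fun b => if b < 69 then d (b % 23) (2 * (b / 23)) else ε
  have hσ69 : σ 69 = ε := if_neg (by norm_num)
  -- the walks
  have hstep : ∀ p < 23, ∀ x < 6, d p x = σ (ebit p x) := by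
    intro p hp x hx
    rcases Nat.even_or_odd' x with ⟨j, rfl | rfl⟩
    · have h1 : ebit p (2 * j) = j * 23 + p := by
        unfold ebit
        rw [show Nat.beq (Nat.mod (2 * j) 2) 0 = true by
          rw [Nat.beq_eq]
          show (2 * j) % 2 = 0
          omega, cond_true]
        show (2 * j) / 2 * 23 + p = _
        rw [show (2 * j) / 2 = j by omega]
      rw [h1]
      show d p (2 * j) = if j * 23 + p < 69 then d ((j * 23 + p) % 23) (2 * ((j * 23 + p) / 23)) else ε
      rw [if_pos (by omega)]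
      have h2 : (j * 23 + p) % 23 = p := by omega
      have h3 : (j * 23 + p) / 23 = j := by omega
      rw [h2, h3]
    · have hq := pt_lt hp hx
      have h1 : ebit p (2 * j + 1) = j * 23 + pt p (2 * j + 1) := by
        unfold ebit
        rw [show Nat.beq (Nat.mod (2 * j + 1) 2) 0 = false by
          cases h : Nat.beq (Nat.mod (2 * j + 1) 2) 0 with
          | false => rfl
          | true =>
            have h' := Nat.eq_of_beq_eq_true h
            have h'' : (2 * j + 1) % 2 = 0 := h'
            omega, cond_false]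
        show (2 * j + 1) / 2 * 23 + _ = _
        rw [show (2 * j + 1) / 2 = j by omega]
      rw [h1]
      show d p (2 * j + 1) = if j * 23 + pt p (2 * j + 1) < 69 then
        d ((j * 23 + pt p (2 * j + 1)) % 23) (2 * ((j * 23 + pt p (2 * j + 1)) / 23)) else ε
      rw [if_pos (by omega)]
      have h2 : (j * 23 + pt p (2 * j + 1)) % 23 = pt p (2 * j + 1) := by omega
      have h3 : (j * 23 + pt p (2 * j + 1)) / 23 = j := by omega
      rw [h2, h3]
      have h4 := hf p hp (2 * j + 1) hx
      rw [flp_odd] at h4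
      exact h4.symm
  have hwalk : ∀ (u : List ℕ), (∀ x ∈ u, x < 6) → ∀ p < 23, wkAdd d p u = ev7 σ (wkM p u) := by
    intro u hu
    induction u with
    | nil =>
      intro p _
      exact (ev7_zero _).symm
    | cons x u ih =>
      intro p hp
      have hx : x < 6 := hu x (by simp)
      have hb : ebit p x < 70 := by
        have hq := pt_lt hp hx
        unfold ebit
        cases Nat.beq (Nat.mod x 2) 0 with
        | true =>
          show x / 2 * 23 + p < 70
          have : x / 2 < 3 := by omega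
          nlinarith
        | false =>
          show x / 2 * 23 + pt p x < 70
          have : x / 2 < 3 := by omega
          nlinarith
      rw [wkM_cons, ev7_xor, ev7_pow _ hb, ← hstep p hp x hx,
        ← ih (fun y hy => hu y (by simp [hy])) _ (pt_lt hp hx)]
      rfl
  -- the equations
  have hrowR : ∀ (u : List ℕ), (∀ x ∈ u, x < 6) → ∀ (U n : ℕ), n ≤ 23 → ev7 σ (rowR u U n) =
      ∑ q ∈ Finset.range n, (if U.testBit q then ε * (xiN q u : ZMod 2) + wkAdd d q u else 0) := by
    intro u hu U n hn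
    induction n with
    | zero => exact ev7_zero _
    | succ n ih =>
      have h1 : rowR u U (n + 1) = (bif U.testBit n then (wkM n u) ^^^ ((xiN n u % 2) * 2 ^ 69) else 0) ^^^ rowR u U n := rfl
      have key : ev7 σ (bif U.testBit n then (wkM n u) ^^^ ((xiN n u % 2) * 2 ^ 69) else 0) =
          if U.testBit n then ε * (xiN n u : ZMod 2) + wkAdd d n u else 0 := by
        cases U.testBit n with
        | false => exact ev7_zero _
        | true =>
          show ev7 σ (wkM n u ^^^ ((xiN n u % 2) * 2 ^ 69)) = _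
          rw [ev7_xor, ← hwalk u hu n (by omega), if_pos rfl, add_comm]
          have h4 : ev7 σ ((xiN n u % 2) * 2 ^ 69) = ε * (xiN n u : ZMod 2) := by
            have h2 : ((xiN n u : ℕ) : ZMod 2) = ((xiN n u % 2 : ℕ) : ZMod 2) := (ZMod.natCast_mod _ _).symm
            rw [h2]
            rcases Nat.mod_two_eq_zero_or_one (xiN n u) with h3 | h3
            · rw [h3]
              simp [ev7_zero]
            · rw [h3, one_mul, ev7_pow _ (by norm_num), hσ69]
              simp
          rw [h4]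
      rw [Finset.sum_range_succ, ← ih (by omega), h1, ev7_xor, key, add_comm]
  have hrw : ∀ r < 26, ev7 σ (rwE r) = 0 := by
    intro r hr
    have h1 := Nat.eq_of_beq_eq_true ((allB_iff _ _).1 row_chk r hr)
    obtain ⟨h2, h3⟩ := row_idx r hr
    rw [← h1, hrowR _ (hn _) _ _ (le_refl _)]
    exact hrow _ h2 _ h3
  have hfold : ∀ m n, n ≤ 26 → ev7 σ (foldS m n) = 0 := by
    intro m n hn
    induction n with
    | zero => exact ev7_zero _
    | succ n ih =>
      have h2 : foldS m (n + 1) = (bif m.testBit n then rwE n else 0) ^^^ foldS m n := rfl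
      rw [h2, ev7_xor, ih (by omega), add_zero]
      cases m.testBit n with
      | false => exact ev7_zero _
      | true => exact hrw n (by omega)
  have hval : ∀ b < 70, σ b = ev7 σ (fmE b) := by
    intro b hb
    have h1 := Nat.eq_of_beq_eq_true ((allB_iff _ _).1 cmb_chk2 b hb)
    have h2 := hfold (cbE b) 26 (le_refl _)
    rw [h1] at h2
    have h3 : Nat.xor (Nat.pow 2 b) (fmE b) = 2 ^ b ^^^ fmE b := rfl
    rw [h3, ev7_xor, ev7_pow _ hb] at h2
    generalize σ b = a0 at h2 ⊢
    generalize ev7 σ (fmE b) = a1 at h2 ⊢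
    revert a0 a1
    decide
  refine ⟨?_, ?_⟩
  · rw [← hσ69, hval 69 (by norm_num), fm69, ev7_zero]
  -- the solutions
  refine ⟨fun p => ∑ f ∈ Finset.range 70, if (msE f).testBit p then σ f else 0,
    fun j => ∑ f ∈ Finset.range 70, σ f • maskWord (vsE f j), ?_, ?_⟩
  · intro j hj
    constructor
    · refine Submodule.sum_mem _ ?_
      intro f hf'
      have h1 := (allB_iff _ _).1 ((allB_iff _ _).1 vs_code f (Finset.mem_range.1 hf')) j hj
      rw [Bool.and_eq_true] at h1
      exact Submodule.smul_mem _ _ (maskWord_mem_of_isCode h1.1)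
    · show (∑ f ∈ Finset.range 70, σ f • maskWord (vsE f j)) none = 0
      rw [Finset.sum_apply]
      apply Finset.sum_eq_zero
      intro f hf'
      have h1 := (allB_iff _ _).1 ((allB_iff _ _).1 vs_code f (Finset.mem_range.1 hf')) j hj
      rw [Bool.and_eq_true] at h1
      have h2 : (vsE f j).testBit 23 = false := by
        have := h1.2
        simpa using this
      have h3 : maskWord (vsE f j) none = 0 := by
        have h4 : ptIdx none = 23 := rfl
        simp [maskWord, h4, h2]
      rw [Pi.smul_apply, h3, smul_zero]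
  · intro j hj p hp
    have hb : j * 23 + p < 69 := by omega
    have h1 : d p (2 * j) = σ (j * 23 + p) := by
      show _ = if j * 23 + p < 69 then d ((j * 23 + p) % 23) (2 * ((j * 23 + p) / 23)) else ε
      rw [if_pos hb]
      have h2 : (j * 23 + p) % 23 = p := by omega
      have h3 : (j * 23 + p) / 23 = j := by omega
      rw [h2, h3]
    rw [h1, hval _ (by omega)]
    have hq : pt p (2 * j) < 23 := pt_lt hp (by omega)
    have h2 : ∀ f ∈ Finset.range 70, (if (fmE (j * 23 + p)).testBit f then σ f else 0) =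
        (if (msE f).testBit p then σ f else 0) + (if (msE f).testBit (pt p (2 * j)) then σ f else 0) +
          (σ f • maskWord (vsE f j)) (idxPt (pt p (2 * j))) := by
      intro f hf'
      have h3 := (allB_iff _ _).1 ((allB_iff _ _).1 sol_chk _ hb) f (Finset.mem_range.1 hf')
      unfold solB at h3
      simp only [frc_eq] at h3
      have h4 : Nat.div (j * 23 + p) 23 = j := by
        show (j * 23 + p) / 23 = j
        omega
      have h5 : Nat.mod (j * 23 + p) 23 = p := by
        show (j * 23 + p) % 23 = p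
        omega
      have h6 : Nat.mul 2 j = 2 * j := rfl
      rw [h4, h5, h6, beq_iff_eq] at h3
      rw [h3]
      have h7 : (σ f • maskWord (vsE f j)) (idxPt (pt p (2 * j))) =
          σ f * (if (vsE f j).testBit (pt p (2 * j)) then 1 else 0) := by
        simp [maskWord, ptIdx_idxPt (show pt p (2 * j) < 24 by omega)]
      rw [h7]
      generalize σ f = a0
      cases (msE f).testBit p <;> cases (msE f).testBit (pt p (2 * j)) <;>
        cases (vsE f j).testBit (pt p (2 * j)) <;> simp [add_self_z2]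
    unfold ev7
    rw [Finset.sum_congr rfl h2, Finset.sum_add_distrib, Finset.sum_add_distrib]
    show _ = _ + _ + (∑ f ∈ Finset.range 70, σ f • maskWord (vsE f j)) (idxPt (pt p (2 * j)))
    rw [Finset.sum_apply]

end Cfsg.Agent.Lib.Compute.M23Ext
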