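import Cfsg.Agent.Lib.Compute.M23Ext.TwoFin

/-!
# The extensions of `M23` by the code module split: the end of the proof
-/

set_option autoImplicit false
set_option maxRecDepth 1000000

namespace Cfsg.Agent.Lib.Compute.M23Ext

open Cfsg Cfsg.Agent.Lib.Compute.SchurLin Cfsg.Agent.Lib.Compute.Schur2
open Cfsg.Agent.Lib.Compute.ToddCoxeterCore (wordEl wordEl_nil wordEl_cons wordEl_append frc frc_eq)
open Cfsg.Agent.Lib.Compute.Golay Cfsg.Agent.Lib.Compute.GolayFast Cfsg.Agent.Lib.Compute.GolayDual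
open Cfsg.Agent.Lib.Compute.M24 Cfsg.Agent.Lib.Compute.M24Enum Cfsg.Agent.Lib.Compute.M24Norm
open Cfsg.Agent.Lib.Compute.OutCert Cfsg.Agent.Lib.Compute.M24Out
open Cfsg.Agent.Lib.Compute.PermCert (allB allB_iff)

universe u

/-- Sums over the points. -/
theorem sum_golay_range (F : GolayPt → ZMod 2) : ∑ p, F p = ∑ q ∈ Finset.range 24, F (idxPt q) := by
  rw [← Fin.sum_univ_eq_sum_range (fun q => F (idxPt q)) 24]
  exact (Equiv.sum_comp ptEquiv.symm F).symm

theorem idxPt_23 : idxPt 23 = none := rfl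

namespace PExt

variable {E : Type u} [Group E] {D : PExt E} {Y Z : ℕ → E}

theorem row_eq (hY : ∀ j, D.π (Y j) = g j) {ε : ZMod 2} (hε : ∀ w : List ℕ, (∀ x ∈ w, x < 4) →
      wordEl (ltr g) w = 1 → D.vl (wordEl (ltr Y) w) p0 = ε * (walkSum M22.c.t 4 c2E 0 w : ZMod 2))
    {k : ℕ} (hk : k < 14) {ui : ℕ} (hui : ui < 12) :
    ∑ q ∈ Finset.range 23, (if (ubL.getD ui 0).testBit q then
      ε * (xiN q (c.W.getD k []) : ZMod 2) + wkAdd (lab D Y Y) q (c.W.getD k []) else 0) = 0 := by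
  have hau : D.π (wordEl (ltr Y) (c.W.getD k [])) = 1 := by
    rw [D.π_word hY]
    exact hrel k hk
  obtain ⟨hw1, hw2⟩ := D.hcode _ hau
  have hv := maskWord_mem_of_isCode (ub_chk ui hui)
  have h1 := golay_orth _ hv _ hw1
  rw [sum_golay_range, Finset.sum_range_succ] at h1
  rw [idxPt_23] at h1
  have h2 : maskWord (ubL.getD ui 0) none * D.vl (wordEl (ltr Y) (c.W.getD k [])) none = 0 := by
    rw [hw2, mul_zero]
  rw [h2, add_zero] at h1
  refine Eq.trans ?_ h1
  apply Finset.sum_congr rfl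
  intro q hq
  have hq' : q < 23 := Finset.mem_range.1 hq
  rw [← key_eq hY hY hε hk hq']
  unfold maskWord
  rw [ptIdx_idxPt (by omega)]
  split_ifs <;> simp

/-- Changing the generators by elements of the kernel. -/
theorem lab_change (hY : ∀ j, D.π (Y j) = g j) (hZ : ∀ j, D.π (Z j) = g j) {n : ℕ → E}
    (hn : ∀ j < 3, D.π (n j) = 1) (hZ' : ∀ j < 3, Z j = n j * Y j) {p j : ℕ} (hp : p < 23) (hj : j < 3) :
    lab D Y Z p (2 * j) = lab D Y Y p (2 * j) + D.vl (n j) (idxPt (pt p (2 * j))) := by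
  have hx : 2 * j < 6 := by omega
  have hq := pt_lt hp hx
  have hl : ∀ T : ℕ → E, ltr T (2 * j) = T j := by
    intro T
    unfold ltr
    rw [if_pos (by omega)]
    congr 1
    omega
  have he := edge_π hY hY hp hx
  set wv := wordEl (ltr Y) (wwE p (2 * j)) with hwv
  set q := pt p (2 * j) with hq'
  have hfix : ((D.π wv : G) : P) p0 = p0 := by
    rw [D.π_word hY]
    exact word_fix (ww_chk p hp _ hx).1
  have h1 : wv⁻¹ * ((rep Y q)⁻¹ * ltr Z (2 * j) * rep Y p) =
      (wv⁻¹ * ((rep Y q)⁻¹ * n j * rep Y q) * wv) * (wv⁻¹ * ((rep Y q)⁻¹ * ltr Y (2 * j) * rep Y p)) := by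
    rw [hl Z, hl Y, hZ' j hj]
    group
  have h2 : D.π ((rep Y q)⁻¹ * n j * rep Y q) = 1 := by
    rw [map_mul, map_mul, hn j hj, mul_one, map_inv, inv_mul_cancel]
  have h3 : D.π (wv⁻¹ * ((rep Y q)⁻¹ * n j * rep Y q) * wv) = 1 := by
    rw [map_mul, map_mul, h2, mul_one, map_inv, inv_mul_cancel]
  have h4 : D.π (wv⁻¹ * ((rep Y q)⁻¹ * ltr Y (2 * j) * rep Y p)) = 1 := by
    rw [map_mul, map_inv, he, inv_mul_cancel]
  show D.vl (wv⁻¹ * ((rep Y q)⁻¹ * ltr Z (2 * j) * rep Y p)) p0 =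
    D.vl (wv⁻¹ * ((rep Y q)⁻¹ * ltr Y (2 * j) * rep Y p)) p0 + _
  rw [h1, D.hadd _ _ h3 h4, Pi.add_apply, D.vl_conj' _ h2, hfix, D.vl_conj' _ (hn j hj), rep_act hY hq, add_comm]

/-- Telescoping. -/
theorem wkAdd_tel {ζ : ℕ → ℕ → ZMod 2} {M : ℕ → ZMod 2} (h : ∀ p < 23, ∀ x < 6, ζ p x = M p + M (pt p x))
    {u : List ℕ} (hu : ∀ x ∈ u, x < 6) {p : ℕ} (hp : p < 23) :
    wkAdd ζ p u = M p + M (walkEnd pt p u) := by
  induction u generalizing p with
  | nil =>
    show (0 : ZMod 2) = M p + M p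
    rw [add_self_z2]
  | cons x u ih =>
    have hx := hu x (by simp)
    show ζ p x + wkAdd ζ (pt p x) u = M p + M (walkEnd pt (pt p x) u)
    rw [h p hp x hx, ih (fun y hy => hu y (by simp [hy])) (pt_lt hp hx), add_assoc, ← add_assoc (M (pt p x)),
      add_self_z2, zero_add]

end PExt

/-- The lifts of the generators satisfying the relators give a complement. -/
theorem complement_of_lifts' {E : Type u} [Group E] [Finite E] (π : E →* G) {Y : ℕ → E}
    (hY : ∀ j, π (Y j) = g j) (h1 : ∀ j, 3 ≤ j → Y j = 1)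
    (hr : ∀ k < 14, wordEl (ltr Y) (c.W.getD k []) = 1) :
    ∃ H : Subgroup E, H ⊓ π.ker = ⊥ ∧ H ⊔ π.ker = ⊤ := by
  let H : Subgroup E := Subgroup.closure (Y '' Set.Iio 3)
  have hmem : ∀ j, Y j ∈ H := by
    intro j
    by_cases hj : j < 3
    · exact Subgroup.subset_closure ⟨j, hj, rfl⟩
    · rw [h1 j (not_lt.1 hj)]
      exact one_mem _
  let el : ℕ → H := fun j => ⟨Y j, hmem j⟩
  have hcard : Nat.card H ≤ Nat.card G := by
    refine card_le' (el := el) ?_ ?_
    · intro k hk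
      apply Subtype.ext
      have := map_wordEl_ltr H.subtype el (c.W.getD k [])
      exact this.trans (hr k hk)
    · intro x
      have h2 : x ∈ (Subgroup.closure (Subtype.val ⁻¹' (Y '' Set.Iio 3)) : Subgroup H) := by
        rw [Subgroup.closure_closure_coe_preimage]
        trivial
      refine Subgroup.closure_mono ?_ h2
      rintro ⟨a, ha⟩ ⟨j, hj, hja⟩
      refine ⟨j, hj, ?_⟩
      apply Subtype.ext
      exact hja
  let f : H →* G := π.comp H.subtype
  have hf : (fun j => f (el j)) = g := funext hY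
  have hs : Function.Surjective f := by
    intro h
    obtain ⟨w, _, hw⟩ := exists_word (hgen h)
    refine ⟨wordEl (ltr el) w, ?_⟩
    rw [map_wordEl_ltr, hf]
    exact hw
  have hb := hs.bijective_of_nat_card_le hcard
  refine ⟨H, ?_, ?_⟩
  · rw [eq_bot_iff]
    rintro x ⟨hx1, hx2⟩
    have h2 : f ⟨x, hx1⟩ = f 1 := by
      rw [map_one]
      exact hx2
    have h3 := hb.1 h2
    exact congrArg Subtype.val h3
  · rw [eq_top_iff]
    intro e _
    obtain ⟨a, ha⟩ := hs (π e)
    have h2 : (a : E)⁻¹ * e ∈ π.ker := by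
      rw [MonoidHom.mem_ker, map_mul, map_inv]
      have : π (a : E) = π e := ha
      rw [this, inv_mul_cancel]
    have h3 := Subgroup.mul_mem_sup a.2 h2
    rwa [mul_inv_cancel_left] at h3

/-- **The extensions of `M23` by the code module split.** -/
theorem PExt.exists_complement {E : Type u} [Group E] [Finite E] (D : PExt E) :
    ∃ H : Subgroup E, H ⊓ D.π.ker = ⊥ ∧ H ⊔ D.π.ker = ⊤ := by
  classical
  obtain ⟨Y, ε, hY, hε⟩ := exists_base D
  obtain ⟨hε0, M, V, hV, hd⟩ := solve2 (PExt.lab D Y Y) ε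
    (fun p hp x hx => PExt.lab_flip hY hY hp hx)
    (fun k hk ui hui => PExt.row_eq hY hε hk hui)
  choose n hn using fun j : {j // j < 3} => D.hsurj (V j) (hV j j.2).1 (hV j j.2).2
  let n' : ℕ → E := fun j => if hj : j < 3 then n ⟨j, hj⟩ else 1
  have hn1 : ∀ j < 3, D.π (n' j) = 1 := by
    intro j hj
    simp only [n', dif_pos hj]
    exact (hn ⟨j, hj⟩).1
  have hn2 : ∀ j < 3, D.vl (n' j) = V j := by
    intro j hj
    simp only [n', dif_pos hj]
    exact (hn ⟨j, hj⟩).2
  let Z : ℕ → E := fun j => if j < 3 then n' j * Y j else 1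
  have hZ' : ∀ j < 3, Z j = n' j * Y j := fun j hj => if_pos hj
  have hZ1 : ∀ j, 3 ≤ j → Z j = 1 := fun j hj => if_neg (not_lt.2 hj)
  have hZ : ∀ j, D.π (Z j) = g j := by
    intro j
    by_cases hj : j < 3
    · rw [hZ' j hj, map_mul, hn1 j hj, one_mul, hY]
    · rw [hZ1 j (not_lt.1 hj), map_one, g_ge (not_lt.1 hj)]
  -- the labels of the new generators
  have hev : ∀ p < 23, ∀ j < 3, PExt.lab D Y Z p (2 * j) = M p + M (pt p (2 * j)) := by
    intro p hp j hj
    rw [PExt.lab_change hY hZ hn1 hZ' hp hj, hd j hj p hp, hn2 j hj, add_assoc, add_self_z2, add_zero]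
  have hall : ∀ p < 23, ∀ x < 6, PExt.lab D Y Z p x = M p + M (pt p x) := by
    intro p hp x hx
    by_cases h2 : x % 2 = 0
    · have h3 : x = 2 * (x / 2) := by omega
      rw [h3]
      exact hev p hp _ (by omega)
    · have h3 : flp x = 2 * (x / 2) := by
        unfold flp
        rw [if_neg h2]
        omega
      have h4 := PExt.lab_flip hY hZ hp hx
      rw [← h4, h3, hev _ (pt_lt hp hx) _ (by omega), ← h3, pt_flp hp hx, add_comm]
  -- the relators
  have hr : ∀ k < 14, wordEl (ltr Z) (c.W.getD k []) = 1 := by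
    intro k hk
    have hau : D.π (wordEl (ltr Z) (c.W.getD k [])) = 1 := by
      rw [D.π_word hZ]
      exact hrel k hk
    apply D.hinj _ hau
    funext p
    show D.vl _ p = 0
    by_cases hp : p = none
    · rw [hp]
      exact (D.hcode _ hau).2
    · have h1 : ptIdx p < 23 := by
        have := ptIdx_lt p
        rcases p with _ | p
        · exact absurd rfl hp
        · show p.val < 23
          exact p.isLt
      rw [← idxPt_ptIdx p, PExt.key_eq hY hZ hε hk h1, hε0, zero_mul, zero_add,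
        PExt.wkAdd_tel hall (sound.hW k) h1, relP_chk k hk _ h1, add_self_z2]
  exact complement_of_lifts' D.π hZ hZ1 hr

end Cfsg.Agent.Lib.Compute.M23Ext
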