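import Cfsg.Agent.Lib.Compute.M23Ext.Two

/-!
# The extensions of `M23` by the code module
-/

set_option autoImplicit false
set_option maxRecDepth 1000000

namespace Cfsg.Agent.Lib.Compute.M23Ext

open Cfsg Cfsg.Agent.Lib.Compute.SchurLin Cfsg.Agent.Lib.Compute.Schur2
open Cfsg.Agent.Lib.Compute.ToddCoxeterCore (wordEl wordEl_nil wordEl_cons wordEl_append frc frc_eq)
open Cfsg.Agent.Lib.Compute.Golay Cfsg.Agent.Lib.Compute.GolayFast Cfsg.Agent.Lib.Compute.GolayDual
open Cfsg.Agent.Lib.Compute.M24 Cfsg.Agent.Lib.Compute.M24Enum Cfsg.Agent.Lib.Compute.M24Norm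
open Cfsg.Agent.Lib.Compute.OutCert Cfsg.Agent.Lib.Compute.M24Out
open Cfsg.Agent.Lib.Compute.PermCert (allB allB_iff)

universe u

/-- The data of an extension by the code module. -/
structure PExt (E : Type u) [Group E] where
  π : E →* G
  hs : Function.Surjective π
  vl : E → GolayPt → ZMod 2
  hadd : ∀ a b, π a = 1 → π b = 1 → vl (a * b) = vl a + vl b
  hinj : ∀ a, π a = 1 → vl a = 0 → a = 1
  hcode : ∀ a, π a = 1 → vl a ∈ golayCode ∧ vl a none = 0
  hsurj : ∀ w, w ∈ golayCode → w none = 0 → ∃ a, π a = 1 ∧ vl a = w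
  hconj : ∀ e a, π a = 1 → vl (e * a * e⁻¹) = vl a ∘ ⇑(((π e : G) : P)⁻¹)

/-- The base point. -/
noncomputable abbrev p0 : GolayPt := idxPt 0

namespace PExt

variable {E : Type u} [Group E] (D : PExt E)

theorem vl_one : D.vl 1 = 0 := by
  have h := D.hadd 1 1 (map_one _) (map_one _)
  rw [mul_one] at h
  funext p
  have h2 := congrFun h p
  simp only [Pi.add_apply] at h2
  show D.vl 1 p = 0
  generalize D.vl 1 p = a at h2 ⊢
  revert a
  decide

theorem vl_inv {a : E} (ha : D.π a = 1) : D.vl a⁻¹ = D.vl a := by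
  have h := D.hadd a a⁻¹ ha (by rw [map_inv, ha, inv_one])
  rw [mul_inv_cancel, vl_one] at h
  funext p
  have h2 := congrFun h p
  simp only [Pi.add_apply, Pi.zero_apply] at h2
  generalize D.vl a⁻¹ p = b at h2 ⊢
  generalize D.vl a p = c at h2 ⊢
  revert b c
  decide

theorem vl_conj' (r : E) {a : E} (ha : D.π a = 1) (p : GolayPt) :
    D.vl (r⁻¹ * a * r) p = D.vl a (((D.π r : G) : P) p) := by
  have h := D.hconj r⁻¹ a ha
  rw [inv_inv] at h
  rw [h, Function.comp_apply, map_inv, Subgroup.coe_inv, inv_inv]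

theorem vl_pow {a : E} (ha : D.π a = 1) (S : ℕ) (p : GolayPt) :
    D.π (a ^ S) = 1 ∧ D.vl (a ^ S) p = (S : ZMod 2) * D.vl a p := by
  induction S with
  | zero =>
    simp [vl_one]
  | succ S ih =>
    refine ⟨by rw [map_pow, ha, one_pow], ?_⟩
    rw [pow_succ, D.hadd _ _ ih.1 ha, Pi.add_apply, ih.2]
    push_cast
    ring

end PExt

theorem wordEl_congr_lt {H : Type*} [Group H] {A B : ℕ → H} {n : ℕ} (h : ∀ j < n, A j = B j) {w : List ℕ}
    (hw : ∀ x ∈ w, x < 2 * n) : wordEl (ltr A) w = wordEl (ltr B) w := by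
  induction w with
  | nil => rfl
  | cons x w ih =>
    have hx : x < 2 * n := hw x (by simp)
    have h1 : ltr A x = ltr B x := by
      unfold ltr
      rw [h (x / 2) (by omega)]
    rw [wordEl_cons, wordEl_cons, ih (fun y hy => hw y (by simp [hy])), h1]

theorem gT_eq : ∀ j < 2, M22.gT.getD (2 * j) idL = gT.getD (2 * j) idL := by decide +kernel

theorem g22_coe {j : ℕ} (hj : j < 2) : ((g22 j : G22) : P) = ((g j : G) : P) := by
  show ((gOf Spor.M22 M22.gT j : Spor.M22) : P) = ((gOf Spor.M23 gT j : Spor.M23) : P)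
  rw [coe_gOf Cfsg.Agent.S2036.hmem hj, coe_gOf hmem (by omega), gT_eq j hj]

theorem word22_coe {w : List ℕ} (hw : ∀ x ∈ w, x < 4) :
    ((wordEl (ltr g22) w : G22) : P) = ((wordEl (ltr g) w : G) : P) := by
  have h1 := map_wordEl_ltr (Spor.M22).subtype g22 w
  have h2 := map_wordEl_ltr (Spor.M23).subtype g w
  refine h1.trans (Eq.trans ?_ h2.symm)
  exact wordEl_congr_lt (n := 2) (fun j hj => g22_coe hj) hw

theorem M22_le_M23 {y : P} (hy : y ∈ Spor.M22) : y ∈ Spor.M23 := by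
  rw [Cfsg.Agent.S2062.mem_M22_iff] at hy
  rw [Cfsg.Agent.S2063.mem_M23_iff]
  exact ⟨hy.1, hy.2.1⟩

theorem M22_fix {y : P} (hy : y ∈ Spor.M22) : y p0 = p0 := by
  rw [Cfsg.Agent.S2062.mem_M22_iff] at hy
  exact hy.2.2

/-- **The base generators of an extension**: the values of the relations of `M22`. -/
theorem exists_base {E : Type u} [Group E] [Finite E] (D : PExt E) :
    ∃ (Y : ℕ → E) (ε : ZMod 2), (∀ j, D.π (Y j) = g j) ∧ ∀ w : List ℕ, (∀ x ∈ w, x < 4) →
      wordEl (ltr g) w = 1 → D.vl (wordEl (ltr Y) w) p0 = ε * (walkSum M22.c.t 4 c2E 0 w : ZMod 2) := by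
  classical
  -- the preimage of `M22`
  let E₀ : Subgroup E := ((Spor.M22).comap (Spor.M23).subtype).comap D.π
  have hE₀ : ∀ e : E₀, ((D.π (e : E) : G) : P) ∈ Spor.M22 := fun e => e.2
  let τ : E₀ →* G22 := MonoidHom.mk' (fun e => ⟨((D.π (e : E) : G) : P), hE₀ e⟩) (by
    intro a b
    apply Subtype.ext
    show ((D.π ((a : E) * (b : E)) : G) : P) = _
    rw [map_mul]
    rfl)
  have hτ : ∀ e : E₀, ((τ e : G22) : P) = ((D.π (e : E) : G) : P) := fun _ => rfl
  have hτ1 : ∀ e : E₀, τ e = 1 ↔ D.π (e : E) = 1 := by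
    intro e
    constructor
    · intro h
      apply Subtype.ext
      have := congrArg Subtype.val h
      exact this
    · intro h
      apply Subtype.ext
      show ((D.π (e : E) : G) : P) = _
      rw [h]
      rfl
  have hτs : Function.Surjective τ := by
    rintro ⟨y, hy⟩
    obtain ⟨a, ha⟩ := D.hs ⟨y, M22_le_M23 hy⟩
    have ha' : ((D.π a : G) : P) = y := by rw [ha]
    refine ⟨⟨a, ?_⟩, ?_⟩
    · show ((D.π a : G) : P) ∈ Spor.M22
      rw [ha']
      exact hy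
    · apply Subtype.ext
      exact ha'
  -- the subgroup to divide by
  let f : E → ZMod 2 := fun e => D.vl e p0
  have hfix : ∀ e : E₀, ((D.π (e : E) : G) : P) p0 = p0 := fun e => M22_fix (hE₀ e)
  have hfconj : ∀ (y : E₀) {a : E}, D.π a = 1 → f ((y : E)⁻¹ * a * y) = f a := by
    intro y a ha
    show D.vl _ p0 = D.vl a p0
    rw [D.vl_conj' _ ha, hfix]
  let K : Subgroup E₀ :=
    { carrier := {e | D.π (e : E) = 1 ∧ f (e : E) = 0}
      mul_mem' := by
        rintro a b ⟨h1, h2⟩ ⟨h3, h4⟩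
        refine ⟨?_, ?_⟩
        · show D.π ((a : E) * (b : E)) = 1
          rw [map_mul, h1, h3, one_mul]
        · show D.vl ((a : E) * (b : E)) p0 = 0
          rw [D.hadd _ _ h1 h3, Pi.add_apply]
          show f a + f b = 0
          rw [h2, h4, add_zero]
      one_mem' := ⟨map_one _, by
        show D.vl 1 p0 = 0
        rw [D.vl_one]
        rfl⟩
      inv_mem' := by
        rintro a ⟨h1, h2⟩
        refine ⟨?_, ?_⟩
        · show D.π ((a : E)⁻¹) = 1
          rw [map_inv, h1, inv_one]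
        · show D.vl ((a : E)⁻¹) p0 = 0
          rw [D.vl_inv h1]
          exact h2 }
  have hKn : K.Normal := by
    refine ⟨?_⟩
    rintro a ⟨h1, h2⟩ y
    refine ⟨?_, ?_⟩
    · show D.π ((y : E) * (a : E) * (y : E)⁻¹) = 1
      rw [map_mul, map_mul, h1, mul_one, map_inv, mul_inv_cancel]
    · have h3 := hfconj y⁻¹ h1
      have h4 : ((y⁻¹ : E₀) : E)⁻¹ * (a : E) * ((y⁻¹ : E₀) : E) = (y : E) * (a : E) * (y : E)⁻¹ := by
        simp
      rw [h4] at h3
      show f ((y : E) * (a : E) * (y : E)⁻¹) = 0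
      rw [h3]
      exact h2
  have hle : K ≤ τ.ker := by
    rintro a ⟨h1, _⟩
    exact (hτ1 a).2 h1
  let Γ := E₀ ⧸ K
  let σ : Γ →* G22 := QuotientGroup.lift K τ hle
  have hss : Function.Surjective σ := by
    intro l
    obtain ⟨e, he⟩ := hτs l
    exact ⟨(e : Γ), he⟩
  have hker : ∀ e : E₀, ((e : Γ)) ∈ σ.ker → D.π (e : E) = 1 := fun e he => (hτ1 e).1 he
  have hc : σ.ker ≤ Subgroup.center Γ := by
    intro x hx
    obtain ⟨e, rfl⟩ := QuotientGroup.mk_surjective x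
    have he := hker e hx
    rw [Subgroup.mem_center_iff]
    intro y
    obtain ⟨y', rfl⟩ := QuotientGroup.mk_surjective y
    show ((y' * e : E₀) : Γ) = ((e * y' : E₀) : Γ)
    rw [QuotientGroup.eq]
    have e1 : (((y' * e)⁻¹ * (e * y') : E₀) : E) = (e : E)⁻¹ * ((y' : E)⁻¹ * (e : E) * (y' : E)) := by
      simp only [Subgroup.coe_mul, Subgroup.coe_inv]
      group
    have h3 : D.π ((y' : E)⁻¹ * (e : E) * (y' : E)) = 1 := by
      rw [map_mul, map_mul, he, mul_one, map_inv, inv_mul_cancel]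
    refine ⟨?_, ?_⟩
    · rw [e1, map_mul, map_inv, he, h3, inv_one, one_mul]
    · rw [e1]
      show D.vl _ p0 = 0
      rw [D.hadd _ _ (by rw [map_inv, he, inv_one]) h3, Pi.add_apply, D.vl_inv he]
      have h4 := hfconj y' he
      have h5 : D.vl ((y' : E)⁻¹ * (e : E) * (y' : E)) p0 = D.vl (e : E) p0 := h4
      rw [h5]
      exact add_self_z2 _
  have hsq : ∀ a ∈ σ.ker, a ^ 2 = 1 := by
    intro x hx
    obtain ⟨e, rfl⟩ := QuotientGroup.mk_surjective x
    have he := hker e hx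
    have h3 : ((e : E) ^ 2) = 1 := by
      apply D.hinj
      · rw [map_pow, he, one_pow]
      · funext p
        rw [(D.vl_pow he 2 p).2]
        have : ((2 : ℕ) : ZMod 2) = 0 := rfl
        rw [this, zero_mul]
        rfl
    have h4 : e ^ 2 = 1 := Subtype.ext h3
    show ((e ^ 2 : E₀) : Γ) = 1
    rw [h4]
    rfl
  -- a copy of the central extension
  obtain ⟨Γ₀, i1, i2, ⟨φ⟩⟩ := exists_copy.{u, 0} Γ
  let σ₀ : Γ₀ →* G22 := σ.comp φ.toMonoidHom
  have hs₀ : Function.Surjective σ₀ := hss.comp φ.surjective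
  have hc₀ : σ₀.ker ≤ Subgroup.center Γ₀ := by
    intro x hx
    have h1 : φ x ∈ σ.ker := hx
    have h2 := Subgroup.mem_center_iff.mp (hc h1)
    rw [Subgroup.mem_center_iff]
    intro y
    apply φ.injective
    have := h2 (φ y)
    simpa using this
  have hsq₀ : ∀ a ∈ σ₀.ker, a ^ 2 = 1 := by
    intro a ha
    apply φ.injective
    rw [map_pow, map_one]
    exact hsq _ ha
  obtain ⟨Y₀, e₀, hY₀, he₀, hw₀⟩ := m22_labels σ₀ hs₀ hc₀ hsq₀
  -- the lifts
  choose Ye hYe using fun j => QuotientGroup.mk_surjective (φ (Y₀ j))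
  obtain ⟨n₀, hn₀⟩ := QuotientGroup.mk_surjective (φ e₀)
  have hYe' : ∀ j, ((Ye j : Γ)) = φ (Y₀ j) := hYe
  have hn₀' : ((n₀ : Γ)) = φ e₀ := hn₀
  have hn₀1 : D.π (n₀ : E) = 1 := by
    apply hker
    rw [hn₀']
    exact he₀
  have hπYe : ∀ j, j < 2 → D.π (Ye j : E) = g j := by
    intro j hj
    apply Subtype.ext
    rw [← hτ, ← g22_coe hj]
    have h1 : τ (Ye j) = σ ((Ye j : Γ)) := rfl
    rw [h1, hYe']
    exact congrArg Subtype.val (hY₀ j)
  choose Yl hYl using fun j => D.hs (g j)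
  refine ⟨fun j => if j < 2 then (Ye j : E) else Yl j, D.vl n₀ p0, ?_, ?_⟩
  · intro j
    by_cases hj : j < 2
    · simp only [if_pos hj]
      exact hπYe j hj
    · simp only [if_neg hj]
      exact hYl j
  intro w hwl hw1
  have hw22 : wordEl (ltr g22) w = 1 := by
    apply Subtype.ext
    rw [word22_coe hwl, hw1]
    rfl
  have h1 := hw₀ w hwl hw22
  have ha : wordEl (ltr (fun j => if j < 2 then (Ye j : E) else Yl j)) w = ((wordEl (ltr Ye) w : E₀) : E) := by
    have h2 := map_wordEl_ltr E₀.subtype Ye w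
    refine Eq.trans ?_ h2.symm
    refine wordEl_congr_lt (n := 2) ?_ hwl
    intro j hj
    simp only [if_pos hj]
    rfl
  rw [ha]
  generalize hS : walkSum M22.c.t 4 c2E 0 w = S at h1 ⊢
  have h3 : ((wordEl (ltr Ye) w : E₀) : Γ) = ((n₀ ^ S : E₀) : Γ) := by
    have h4 := map_wordEl_ltr (QuotientGroup.mk' K) Ye w
    have h5 : (fun j => QuotientGroup.mk' K (Ye j)) = fun j => φ.toMonoidHom (Y₀ j) := funext hYe'
    rw [h5, ← map_wordEl_ltr φ.toMonoidHom Y₀ w, h1] at h4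
    show QuotientGroup.mk' K (wordEl (ltr Ye) w) = QuotientGroup.mk' K (n₀ ^ S)
    rw [h4, map_pow, map_pow]
    show φ e₀ ^ S = ((n₀ : Γ)) ^ S
    rw [hn₀']
  rw [QuotientGroup.eq] at h3
  obtain ⟨h6, h7⟩ := h3
  have h8 := D.vl_pow hn₀1 S p0
  have h9 : (((wordEl (ltr Ye) w)⁻¹ * n₀ ^ S : E₀) : E) = ((wordEl (ltr Ye) w : E₀) : E)⁻¹ * (n₀ : E) ^ S := by
    simp
  rw [h9] at h6 h7
  have h10 : D.π ((wordEl (ltr Ye) w : E₀) : E) = 1 := by
    rw [map_mul, map_inv, h8.1, mul_one] at h6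
    exact inv_eq_one.mp h6
  have h11 : f (((wordEl (ltr Ye) w : E₀) : E)⁻¹ * (n₀ : E) ^ S) = 0 := h7
  have h12 : D.vl (((wordEl (ltr Ye) w : E₀) : E)⁻¹ * (n₀ : E) ^ S) p0 = 0 := h11
  rw [D.hadd _ _ (by rw [map_inv, h10, inv_one]) h8.1, Pi.add_apply, D.vl_inv h10, h8.2] at h12
  generalize D.vl ((wordEl (ltr Ye) w : E₀) : E) p0 = a0 at h12 ⊢
  generalize D.vl (n₀ : E) p0 = a1 at h12 ⊢
  generalize (S : ZMod 2) = a2 at h12 ⊢
  revert a0 a1 a2
  decide

end Cfsg.Agent.Lib.Compute.M23Ext
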