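import Cfsg.Agent.Lib.Compute.M23Ext.TwoExt

/-!
# The extensions of `M23` by the code module split
-/

set_option autoImplicit false
set_option maxRecDepth 1000000

namespace Cfsg.Agent.Lib.Compute.M23Ext

open Cfsg Cfsg.Agent.Lib.Compute.SchurLin Cfsg.Agent.Lib.Compute.Schur2
open Cfsg.Agent.Lib.Compute.ToddCoxeterCore (wordEl wordEl_nil wordEl_cons wordEl_append frc frc_eq)
open Cfsg.Agent.Lib.Compute.Golay Cfsg.Agent.Lib.Compute.GolayFast Cfsg.Agent.Lib.Compute.GolayDual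
open Cfsg.Agent.Lib.Compute.M24 Cfsg.Agent.Lib.Compute.M24Enum Cfsg.Agent.Lib.Compute.M24Norm
open Cfsg.Agent.Lib.Compute.OutCert Cfsg.Agent.Lib.Compute.M24Out
open Cfsg.Agent.Lib.Compute.PermCert (allB allB_iff)

universe u

/-! ### The tables -/

theorem pt_tab : ∀ p < 23, ∀ x < 6, (gT.getD x idL).getD p 0 = pt p x := by decide +kernel

theorem gp_chk : ∀ p < 23, (∀ x ∈ gpW.getD p [], x < 6) ∧ walkEnd pt 0 (gpW.getD p []) = p := by decide +kernel

theorem ww_chk : ∀ p < 23, ∀ x < 6, (∀ y ∈ wwE p x, y < 4) ∧ wwE (pt p x) (flp x) = ((wwE p x).map flp).reverse ∧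
    evalR gT (gpW.getD p [] ++ [x]) = evalR gT (wwE p x ++ gpW.getD (pt p x) []) := by decide +kernel

theorem relP_chk : ∀ k < 14, ∀ p < 23, walkEnd pt p (c.W.getD k []) = p := by decide +kernel

theorem ub_chk : ∀ ui < 12, isCode (ubL.getD ui 0) = true := by decide +kernel

theorem ltr_act {p x : ℕ} (hp : p < 23) (hx : x < 6) :
    ((ltr g x : G) : P) (idxPt p) = idxPt (pt p x) := by
  have h1 : toL ((ltr g x : G) : P) = gT.getD x idL := toL_ltr hmem hval hinv (show x < 2 * 3 from hx)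
  have h2 : ((ltr g x : G) : P) = ofL (gT.getD x idL) := by
    apply eq_of_toL
    rw [h1, toL_ofL (hval x hx)]
  rw [h2, ofL_apply (hval x hx) (by omega), pt_tab p hp x hx]

theorem word_act {u : List ℕ} (hu : ∀ x ∈ u, x < 6) {p : ℕ} (hp : p < 23) :
    ((wordEl (ltr g) u : G) : P) (idxPt p) = idxPt (walkEnd pt p u) ∧ walkEnd pt p u < 23 := by
  induction u generalizing p with
  | nil => exact ⟨rfl, hp⟩
  | cons x u ih =>
    have hx := hu x (by simp)
    have h1 := ih (fun y hy => hu y (by simp [hy])) (pt_lt hp hx)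
    refine ⟨?_, h1.2⟩
    rw [wordEl_cons, Subgroup.coe_mul, Equiv.Perm.mul_apply, ltr_act hp hx, h1.1]
    rfl

theorem word_eq_of_eval {a b : List ℕ} (ha : ∀ x ∈ a, x < 6) (hb : ∀ x ∈ b, x < 6)
    (h : evalR gT a = evalR gT b) : wordEl (ltr g) a = wordEl (ltr g) b := by
  apply Subtype.ext
  apply eq_of_toL
  rw [toL_wordEl hmem hval hinv ha, toL_wordEl hmem hval hinv hb, h]

theorem word_fix {w : List ℕ} (hw : ∀ x ∈ w, x < 4) : ((wordEl (ltr g) w : G) : P) p0 = p0 := by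
  rw [← word22_coe hw]
  exact M22_fix (wordEl (ltr g22) w).2

/-- The edges of the table on the points. -/
theorem edge_eq {p x : ℕ} (hp : p < 23) (hx : x < 6) :
    wordEl (ltr g) (wwE p x) =
      (wordEl (ltr g) (gpW.getD (pt p x) []))⁻¹ * ltr g x * wordEl (ltr g) (gpW.getD p []) := by
  obtain ⟨h1, _, h3⟩ := ww_chk p hp x hx
  have h4 := word_eq_of_eval (a := gpW.getD p [] ++ [x]) (b := wwE p x ++ gpW.getD (pt p x) [])
    (by
      intro y hy
      rcases List.mem_append.1 hy with hy | hy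
      · exact (gp_chk p hp).1 y hy
      · rw [List.mem_singleton] at hy
        rw [hy]
        exact hx)
    (by
      intro y hy
      rcases List.mem_append.1 hy with hy | hy
      · have := h1 y hy
        omega
      · exact (gp_chk _ (pt_lt hp hx)).1 y hy) h3
  rw [wordEl_append, wordEl_append, wordEl_cons, wordEl_nil, one_mul] at h4
  rw [mul_assoc, h4, inv_mul_cancel_left]

namespace PExt

variable {E : Type u} [Group E] (D : PExt E)

theorem π_word {Z : ℕ → E} (hZ : ∀ j, D.π (Z j) = g j) (w : List ℕ) :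
    D.π (wordEl (ltr Z) w) = wordEl (ltr g) w := by
  rw [map_wordEl_ltr, funext hZ]

theorem vl_step {ωa ωb a b : E} (ha : D.π ωa = D.π a) (hb : D.π ωb = D.π b)
    (hfix : ((D.π ωb : G) : P) p0 = p0) :
    D.vl ((ωa * ωb)⁻¹ * (a * b)) p0 = D.vl (ωa⁻¹ * a) p0 + D.vl (ωb⁻¹ * b) p0 := by
  have h1 : (ωa * ωb)⁻¹ * (a * b) = ωb⁻¹ * (ωa⁻¹ * a) * ωb * (ωb⁻¹ * b) := by group
  have h2 : D.π (ωa⁻¹ * a) = 1 := by rw [map_mul, map_inv, ha, inv_mul_cancel]
  have h3 : D.π (ωb⁻¹ * b) = 1 := by rw [map_mul, map_inv, hb, inv_mul_cancel]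
  have h4 : D.π (ωb⁻¹ * (ωa⁻¹ * a) * ωb) = 1 := by
    rw [map_mul, map_mul, h2, mul_one, map_inv, inv_mul_cancel]
  rw [h1, D.hadd _ _ h4 h3, Pi.add_apply, D.vl_conj' _ h2, hfix]

/-- The representatives of the points. -/
noncomputable def rep (Y : ℕ → E) (p : ℕ) : E := wordEl (ltr Y) (gpW.getD p [])

/-- The labels of the edges. -/
noncomputable def lab (Y Z : ℕ → E) (p x : ℕ) : ZMod 2 :=
  D.vl ((wordEl (ltr Y) (wwE p x))⁻¹ * ((rep Y (pt p x))⁻¹ * ltr Z x * rep Y p)) p0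

variable {D} {Y Z : ℕ → E} (hY : ∀ j, D.π (Y j) = g j) (hZ : ∀ j, D.π (Z j) = g j)

include hY

theorem rep_act {p : ℕ} (hp : p < 23) : ((D.π (rep Y p) : G) : P) p0 = idxPt p := by
  have h1 : D.π (rep Y p) = wordEl (ltr g) (gpW.getD p []) := D.π_word hY _
  rw [h1]
  obtain ⟨h2, h3⟩ := gp_chk p hp
  have h4 := (word_act h2 (p := 0) (by norm_num)).1
  rw [h3] at h4
  exact h4

include hZ

theorem edge_π {p x : ℕ} (hp : p < 23) (hx : x < 6) :
    D.π (wordEl (ltr Y) (wwE p x)) = D.π ((rep Y (pt p x))⁻¹ * ltr Z x * rep Y p) := by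
  have h1 : D.π (ltr Z x) = ltr g x := by
    rw [map_ltr, funext hZ]
  rw [D.π_word hY, map_mul, map_mul, map_inv, h1]
  show _ = (D.π (wordEl (ltr Y) _))⁻¹ * _ * D.π (wordEl (ltr Y) _)
  rw [D.π_word hY, D.π_word hY]
  exact edge_eq hp hx

/-- The sums of the labels along a walk. -/
theorem walk_main {u : List ℕ} (hu : ∀ x ∈ u, x < 6) {p : ℕ} (hp : p < 23) :
    D.π (wordEl (ltr Y) (wT p u)) = D.π ((rep Y (walkEnd pt p u))⁻¹ * wordEl (ltr Z) u * rep Y p) ∧
    D.vl ((wordEl (ltr Y) (wT p u))⁻¹ * ((rep Y (walkEnd pt p u))⁻¹ * wordEl (ltr Z) u * rep Y p)) p0 =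
      wkAdd (lab D Y Z) p u ∧ ∀ y ∈ wT p u, y < 4 := by
  induction u generalizing p with
  | nil =>
    refine ⟨?_, ?_, ?_⟩
    · show D.π 1 = D.π ((rep Y p)⁻¹ * 1 * rep Y p)
      simp
    · show D.vl (1⁻¹ * ((rep Y p)⁻¹ * 1 * rep Y p)) p0 = 0
      simp [vl_one]
    · intro y hy
      simp [wT_nil] at hy
  | cons x u ih =>
    have hx := hu x (by simp)
    have hq := pt_lt hp hx
    obtain ⟨i1, i2, i3⟩ := ih (fun y hy => hu y (by simp [hy])) hq
    have he := edge_π hY hZ hp hx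
    have hww := (ww_chk p hp x hx).1
    have hA : (rep Y (walkEnd pt p (x :: u)))⁻¹ * wordEl (ltr Z) (x :: u) * rep Y p =
        ((rep Y (walkEnd pt (pt p x) u))⁻¹ * wordEl (ltr Z) u * rep Y (pt p x)) *
          ((rep Y (pt p x))⁻¹ * ltr Z x * rep Y p) := by
      show (rep Y (walkEnd pt (pt p x) u))⁻¹ * (wordEl (ltr Z) u * ltr Z x) * rep Y p = _
      group
    rw [hA, wT_cons, wordEl_append]
    refine ⟨?_, ?_, ?_⟩
    · rw [map_mul, map_mul _ _ ((rep Y (pt p x))⁻¹ * ltr Z x * rep Y p), i1, he]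
    · rw [D.vl_step i1 he (by
        rw [D.π_word hY]
        exact word_fix hww), i2]
      show _ + lab D Y Z p x = lab D Y Z p x + _
      exact add_comm _ _
    · intro y hy
      rcases List.mem_append.1 hy with hy | hy
      · exact hww y hy
      · exact i3 y hy

/-- **The values of the relators of `M23` in the extension.** -/
theorem key_eq {ε : ZMod 2} (hε : ∀ w : List ℕ, (∀ x ∈ w, x < 4) →
      wordEl (ltr g) w = 1 → D.vl (wordEl (ltr Y) w) p0 = ε * (walkSum M22.c.t 4 c2E 0 w : ZMod 2))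
    {k : ℕ} (hk : k < 14) {p : ℕ} (hp : p < 23) :
    D.vl (wordEl (ltr Z) (c.W.getD k [])) (idxPt p) =
      ε * (xiN p (c.W.getD k []) : ZMod 2) + wkAdd (lab D Y Z) p (c.W.getD k []) := by
  have hu : ∀ x ∈ c.W.getD k [], x < 6 := sound.hW k
  obtain ⟨i1, i2, i3⟩ := walk_main hY hZ hu hp
  rw [relP_chk k hk p hp] at i1 i2
  have hau : D.π (wordEl (ltr Z) (c.W.getD k [])) = 1 := by
    rw [D.π_word hZ]
    exact hrel k hk
  have h1 : D.π ((rep Y p)⁻¹ * wordEl (ltr Z) (c.W.getD k []) * rep Y p) = 1 := by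
    rw [map_mul, map_mul, hau, mul_one, map_inv, inv_mul_cancel]
  have h2 : D.π (wordEl (ltr Y) (wT p (c.W.getD k []))) = 1 := i1.trans h1
  have h3 : wordEl (ltr g) (wT p (c.W.getD k [])) = 1 := by
    rw [← D.π_word hY]
    exact h2
  have h4 := hε _ i3 h3
  rw [D.hadd _ _ (by rw [map_inv, h2, inv_one]) h1, Pi.add_apply, D.vl_inv h2, h4, D.vl_conj' _ hau,
    rep_act hY hp, ← walkSumF_eq] at i2
  rw [← i2]
  have h5 : xiN p (c.W.getD k []) = walkSumF M22.c.t 4 c2E 0 (wT p (c.W.getD k [])) := rfl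
  rw [h5]
  generalize D.vl (wordEl (ltr Z) (c.W.getD k [])) (idxPt p) = a
  generalize ε * ((walkSumF M22.c.t 4 c2E 0 (wT p (c.W.getD k [])) : ℕ) : ZMod 2) = b
  revert a b
  decide

/-- The flip of the labels. -/
theorem lab_flip {p x : ℕ} (hp : p < 23) (hx : x < 6) :
    lab D Y Z (pt p x) (flp x) = lab D Y Z p x := by
  obtain ⟨h1, h2, _⟩ := ww_chk p hp x hx
  have he := edge_π hY hZ hp hx
  set wv := wordEl (ltr Y) (wwE p x) with hwv
  set e := (rep Y (pt p x))⁻¹ * ltr Z x * rep Y p with he'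
  have h3 : (wordEl (ltr Y) (wwE (pt p x) (flp x))) = wv⁻¹ := by
    rw [h2, wordEl_inv_word]
  have h4 : (rep Y (pt (pt p x) (flp x)))⁻¹ * ltr Z (flp x) * rep Y (pt p x) = e⁻¹ := by
    rw [pt_flp hp hx, ltr_flp, he']
    group
  have hn : D.π (wv⁻¹ * e) = 1 := by rw [map_mul, map_inv, he, inv_mul_cancel]
  have h5 : (wv⁻¹)⁻¹ * e⁻¹ = (wv⁻¹)⁻¹ * (wv⁻¹ * e)⁻¹ * wv⁻¹ := by group
  have hfix : ((D.π wv⁻¹ : G) : P) p0 = p0 := by
    rw [← h3, D.π_word hY]
    exact word_fix (ww_chk _ (pt_lt hp hx) _ (flp_lt (n := 3) hx)).1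
  show D.vl ((wordEl (ltr Y) (wwE (pt p x) (flp x)))⁻¹ * ((rep Y (pt (pt p x) (flp x)))⁻¹ * ltr Z (flp x) * rep Y (pt p x))) p0 =
    D.vl (wv⁻¹ * e) p0
  rw [h3, h4, h5, D.vl_conj' _ (by rw [map_inv, hn, inv_one]), hfix, D.vl_inv hn]

end PExt

end Cfsg.Agent.Lib.Compute.M23Ext
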