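import Cfsg.Agent.Lib.Compute.M23Ext.Solve
import Cfsg.Agent.Lib.Compute.SchurM23

/-!
# The extensions of `M23` by the cocode module
-/

set_option autoImplicit false
set_option maxRecDepth 1000000

namespace Cfsg.Agent.Lib.Compute.M23Ext

open Cfsg Cfsg.Agent.Lib.Compute.SchurLin Cfsg.Agent.Lib.Compute.Schur2
open Cfsg.Agent.Lib.Compute.ToddCoxeterCore (wordEl wordEl_nil wordEl_cons wordEl_append)
open Cfsg.Agent.Lib.Compute.Golay Cfsg.Agent.Lib.Compute.GolayFast Cfsg.Agent.Lib.Compute.GolayDual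
open Cfsg.Agent.Lib.Compute.M24 Cfsg.Agent.Lib.Compute.M24Enum Cfsg.Agent.Lib.Compute.M24Norm
open Cfsg.Agent.Lib.Compute.OutCert Cfsg.Agent.Lib.Compute.M24Out
open scoped Pointwise

universe u v

/-- A central extension of a perfect group with trivial multiplier splits, and homomorphisms on the kernel extend. -/
theorem central_hom {E₀ : Type u} {L : Type} [Group E₀] [Finite E₀] [Group L] [Finite L]
    (π₀ : E₀ →* L) (hs : Function.Surjective π₀) (hLp : commutator L = ⊤) (hLT : TrivMult L)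
    (f : π₀.ker →* Multiplicative (ZMod 2))
    (hf : ∀ (e a : E₀) (ha : a ∈ π₀.ker) (ha' : e * a * e⁻¹ ∈ π₀.ker), f ⟨e * a * e⁻¹, ha'⟩ = f ⟨a, ha⟩) :
    ∃ χ : E₀ →* Multiplicative (ZMod 2), ∀ (a : E₀) (ha : a ∈ π₀.ker), χ a = f ⟨a, ha⟩ := by
  classical
  let K : Subgroup E₀ := f.ker.map π₀.ker.subtype
  have hKmem : ∀ a, a ∈ K ↔ ∃ ha : a ∈ π₀.ker, f ⟨a, ha⟩ = 1 := by
    intro a
    constructor
    · rintro ⟨⟨b, hb⟩, hb1, rfl⟩
      exact ⟨hb, hb1⟩
    · rintro ⟨ha, h⟩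
      exact ⟨⟨a, ha⟩, h, rfl⟩
  have hKn : K.Normal := by
    refine ⟨?_⟩
    intro a ha e
    obtain ⟨h1, h2⟩ := (hKmem a).1 ha
    have h3 : e * a * e⁻¹ ∈ π₀.ker := (inferInstance : π₀.ker.Normal).conj_mem a h1 e
    exact (hKmem _).2 ⟨h3, by rw [hf e a h1 h3]; exact h2⟩
  have hle : K ≤ π₀.ker := by
    intro a ha
    exact ((hKmem a).1 ha).1
  let Γ := E₀ ⧸ K
  let σ : Γ →* L := QuotientGroup.lift K π₀ hle
  have hσ : ∀ e : E₀, σ (e : Γ) = π₀ e := fun e => rfl
  have hss : Function.Surjective σ := by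
    intro l
    obtain ⟨e, he⟩ := hs l
    exact ⟨(e : Γ), he⟩
  have hc : σ.ker ≤ Subgroup.center Γ := by
    intro x hx
    obtain ⟨e, rfl⟩ := QuotientGroup.mk_surjective x
    have he : e ∈ π₀.ker := hx
    rw [Subgroup.mem_center_iff]
    intro y
    obtain ⟨y', rfl⟩ := QuotientGroup.mk_surjective y
    have hc1 : y'⁻¹ * e * (y'⁻¹)⁻¹ ∈ π₀.ker := (inferInstance : π₀.ker.Normal).conj_mem e he y'⁻¹
    show ((y' * e : E₀) : Γ) = ((e * y' : E₀) : Γ)
    rw [QuotientGroup.eq]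
    have e1 : (y' * e)⁻¹ * (e * y') = e⁻¹ * (y'⁻¹ * e * (y'⁻¹)⁻¹) := by group
    rw [e1, hKmem]
    have hc2 : e⁻¹ * (y'⁻¹ * e * (y'⁻¹)⁻¹) ∈ π₀.ker := mul_mem (inv_mem he) hc1
    refine ⟨hc2, ?_⟩
    have e2 : (⟨e⁻¹ * (y'⁻¹ * e * (y'⁻¹)⁻¹), hc2⟩ : π₀.ker) = (⟨e, he⟩ : π₀.ker)⁻¹ * ⟨_, hc1⟩ := rfl
    rw [e2, map_mul, map_inv, hf y'⁻¹ e he hc1, inv_mul_cancel]
  obtain ⟨Γ₀, i1, i2, ⟨e⟩⟩ := exists_copy.{u, 0} Γ
  let σ₀ : Γ₀ →* L := σ.comp e.toMonoidHom
  have hs₀ : Function.Surjective σ₀ := hss.comp e.surjective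
  have hc₀ : σ₀.ker ≤ Subgroup.center Γ₀ := by
    intro x hx
    have h1 : e x ∈ σ.ker := hx
    have h2 := Subgroup.mem_center_iff.mp (hc h1)
    rw [Subgroup.mem_center_iff]
    intro y
    apply e.injective
    have := h2 (e y)
    simpa using this
  have hLT' : TrivMult (⊤ : Subgroup L) := TrivMult.of_equiv Subgroup.topEquiv hLT
  have hLp' : commutator (⊤ : Subgroup L) = ⊤ := commutator_top_of_equiv Subgroup.topEquiv hLp
  obtain ⟨s₀, hs₀'⟩ := exists_section_of_perfect σ₀ hs₀ hc₀ ⊤ hLp' hLT'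
  let s₁ : (⊤ : Subgroup L) →* Γ := e.toMonoidHom.comp s₀
  have hs₁ : ∀ l, σ (s₁ l) = l := hs₀'
  let r := retr σ hc ⊤ s₁ hs₁
  let ρ : E₀ →* σ.ker :=
    r.comp ((QuotientGroup.mk' K).codRestrict (Subgroup.comap σ ⊤) (fun _ => trivial))
  -- the homomorphism on the kernel
  have hqm : ∀ a : π₀.ker, ((a : E₀) : Γ) ∈ σ.ker := fun a => a.2
  let q : π₀.ker →* σ.ker :=
    ((QuotientGroup.mk' K).comp π₀.ker.subtype).codRestrict σ.ker hqm
  have hq : Function.Surjective q := by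
    rintro ⟨x, hx⟩
    obtain ⟨a, rfl⟩ := QuotientGroup.mk_surjective x
    exact ⟨⟨a, hx⟩, rfl⟩
  have hqk : q.ker ≤ f.ker := by
    intro a ha
    have h1 : ((a : E₀) : Γ) = 1 := congrArg Subtype.val (MonoidHom.mem_ker.mp ha)
    rw [QuotientGroup.eq_one_iff, hKmem] at h1
    obtain ⟨_, h2⟩ := h1
    exact h2
  let fb : σ.ker →* Multiplicative (ZMod 2) := q.liftOfSurjective hq ⟨f, hqk⟩
  refine ⟨fb.comp ρ, ?_⟩
  intro a ha
  have h1 : ρ a = q ⟨a, ha⟩ := by
    apply Subtype.ext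
    exact retr_of_ker σ hc ⊤ s₁ hs₁ _ ha
  show fb (ρ a) = _
  rw [h1]
  exact MonoidHom.liftOfRightInverse_comp_apply q _ _ ⟨f, hqk⟩ _

/-- The data of an extension. -/
structure ExtData (E : Type u) [Group E] where
  π : E →* G
  n : (GolayPt → ZMod 2) → E
  hs : Function.Surjective π
  hadd : ∀ w w', n (w + w') = n w * n w'
  hπ : ∀ w, π (n w) = 1
  hker : ∀ e, π e = 1 → ∃ w, e = n w
  hone : ∀ w, n w = 1 ↔ ∀ i < 1288, fw w i = 0
  hconj : ∀ e w, e * n w * e⁻¹ = n (w ∘ ⇑(((π e : G) : P)⁻¹))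

namespace ExtData

variable {E : Type u} [Group E] (D : ExtData E)

theorem n_zero : D.n 0 = 1 := (D.hone 0).2 (fun i _ => fw_zero i)

theorem n_self (w : GolayPt → ZMod 2) : D.n w * D.n w = 1 := by
  rw [← D.hadd, ← D.n_zero]
  congr 1
  funext p
  exact add_self_z2 _

theorem n_inv (w : GolayPt → ZMod 2) : (D.n w)⁻¹ = D.n w :=
  inv_eq_of_mul_eq_one_left (D.n_self w)

theorem n_eq_of_fw {w w' : GolayPt → ZMod 2} (h : ∀ i < 1288, fw w i = fw w' i) : D.n w = D.n w' := by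
  have h1 : D.n (w + w') = 1 := by
    rw [D.hone]
    intro i hi
    rw [fw_add, h i hi]
    exact add_self_z2 _
  rw [D.hadd] at h1
  rw [← D.n_inv w']
  exact eq_inv_of_mul_eq_one_left h1

theorem fw_of_n_eq {w w' : GolayPt → ZMod 2} (h : D.n w = D.n w') : ∀ i < 1288, fw w i = fw w' i := by
  intro i hi
  have h1 : D.n (w + w') = 1 := by
    rw [D.hadd, h]
    exact D.n_self w'
  have h2 := (D.hone _).1 h1 i hi
  rw [fw_add] at h2
  generalize fw w i = a at h2 ⊢
  generalize fw w' i = b at h2 ⊢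
  revert a b
  decide

end ExtData

/-- A group with the relators, generated by the letters, is not bigger than `M23`, in all universes. -/
theorem card_le' {X : Type u} [Group X] [Finite X] {el : ℕ → X}
    (hr : ∀ k < c.nrel, wordEl (ltr el) (c.W.getD k []) = 1)
    (hg : ∀ x : X, x ∈ Subgroup.closure (el '' Set.Iio c.n)) : Nat.card X ≤ Nat.card G := by
  obtain ⟨X₀, i1, i2, ⟨e⟩⟩ := exists_copy.{u, 0} X
  have h1 : Nat.card X₀ = Nat.card X := Nat.card_congr e.toEquiv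
  rw [← h1]
  refine card_le (el := fun j => e.symm (el j)) ?_ ?_
  · intro k hk
    have := map_wordEl_ltr e.symm.toMonoidHom el (c.W.getD k [])
    have h2 := this.symm
    rw [hr k hk] at h2
    simpa using h2
  · intro x
    have h2 := hg (e x)
    have h3 : e.symm (e x) ∈ (Subgroup.closure (el '' Set.Iio c.n)).map e.symm.toMonoidHom :=
      ⟨e x, h2, rfl⟩
    rw [MonoidHom.map_closure, Set.image_image] at h3
    simpa using h3

/-! ### The stabilizer of a dodecad -/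

theorem dm0 : dm 0 = SchurM23Data.m 0 := by decide +kernel

theorem ω0 : ω 0 = SchurM23.ω 0 := by
  unfold ω SchurM23.ω
  rw [dm0]

/-- The stabilizer of the first dodecad. -/
noncomputable abbrev LL : Subgroup G := MulAction.stabilizer G (ω 0)

theorem LL_perf : commutator LL = ⊤ := by
  unfold LL
  rw [ω0]
  exact commutator_top_of_equiv SchurM23.stabEquiv SchurM11.hperf

theorem LL_triv : TrivMult LL := by
  unfold LL
  rw [ω0]
  exact TrivMult.of_equiv SchurM23.stabEquiv SchurM11.trivMult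

/-- The extension of the pairing with the first dodecad to the preimage of its stabilizer. -/
theorem exists_chi {E : Type u} [Group E] [Finite E] (D : ExtData E) :
    ∃ χ : E → ZMod 2, (∀ a b, D.π a ∈ LL → D.π b ∈ LL → χ (a * b) = χ a + χ b) ∧ ∀ w, χ (D.n w) = fw w 0 := by
  classical
  let E₀ : Subgroup E := LL.comap D.π
  let π₀ : E₀ →* LL := (D.π.comp E₀.subtype).codRestrict LL (fun x => x.2)
  have hπ₀ : ∀ x : E₀, ((π₀ x : LL) : G) = D.π x := fun _ => rfl
  have hs : Function.Surjective π₀ := by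
    rintro ⟨l, hl⟩
    obtain ⟨a, rfl⟩ := D.hs l
    exact ⟨⟨a, hl⟩, Subtype.ext rfl⟩
  have hk : ∀ a : π₀.ker, ∃ w, ((a : E₀) : E) = D.n w := by
    intro a
    apply D.hker
    have := congrArg Subtype.val (MonoidHom.mem_ker.mp a.2)
    exact this
  choose wa hwa using hk
  let f : π₀.ker →* Multiplicative (ZMod 2) := MonoidHom.mk' (fun a => Multiplicative.ofAdd (fw (wa a) 0)) (by
    intro a b
    have h1 : D.n (wa (a * b)) = D.n (wa a + wa b) := by
      rw [← hwa, D.hadd, ← hwa, ← hwa]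
      rfl
    have h2 := D.fw_of_n_eq h1 0 (by norm_num)
    rw [h2, fw_add]
    rfl)
  have hfv : ∀ (a : π₀.ker) (w : GolayPt → ZMod 2), ((a : E₀) : E) = D.n w →
      f a = Multiplicative.ofAdd (fw w 0) := by
    intro a w h
    show Multiplicative.ofAdd (fw (wa a) 0) = _
    rw [D.fw_of_n_eq ((hwa a).symm.trans h) 0 (by norm_num)]
  obtain ⟨χ, hχ⟩ := central_hom π₀ hs LL_perf LL_triv f (by
    intro e a ha ha'
    have h1 : ((a : E₀) : E) = D.n (wa ⟨a, ha⟩) := hwa ⟨a, ha⟩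
    have h2 : ((e * a * e⁻¹ : E₀) : E) = D.n ((wa ⟨a, ha⟩) ∘ ⇑(((D.π e : G) : P)⁻¹)) := by
      show (e : E) * (a : E) * (e : E)⁻¹ = _
      rw [h1, D.hconj]
    rw [hfv ⟨_, ha'⟩ _ h2, hfv ⟨a, ha⟩ _ h1]
    congr 1
    have h3 : ((D.π e : G) : P) • ω 0 = ω 0 := MulAction.mem_stabilizer_iff.1 e.2
    exact fw_comp h3 _)
  refine ⟨fun e => if h : D.π e ∈ LL then Multiplicative.toAdd (χ ⟨e, h⟩) else 0, ?_, ?_⟩
  · intro a b ha hb
    have hab : D.π (a * b) ∈ LL := by
      rw [map_mul]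
      exact mul_mem ha hb
    simp only [dif_pos ha, dif_pos hb, dif_pos hab]
    have : (⟨a * b, hab⟩ : E₀) = ⟨a, ha⟩ * ⟨b, hb⟩ := rfl
    rw [this, map_mul]
    rfl
  · intro w
    have h1 : D.π (D.n w) ∈ LL := by
      rw [D.hπ]
      exact one_mem _
    simp only [dif_pos h1]
    have h2 : (⟨D.n w, h1⟩ : E₀) ∈ π₀.ker := by
      rw [MonoidHom.mem_ker]
      apply Subtype.ext
      exact D.hπ w
    rw [hχ _ h2, hfv ⟨_, h2⟩ w rfl]
    rfl

/-! ### Walks in an extension -/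

theorem ltr_even {H : Type*} [Group H] (Y : ℕ → H) (j : ℕ) : ltr Y (2 * j) = Y j := by
  unfold ltr
  have h4 : (2 * j) % 2 = 0 := by omega
  have h5 : (2 * j) / 2 = j := by omega
  rw [if_pos h4, h5]

theorem ltr_odd {H : Type*} [Group H] (Y : ℕ → H) (j : ℕ) : ltr Y (2 * j + 1) = (Y j)⁻¹ := by
  unfold ltr
  have h4 : (2 * j + 1) % 2 ≠ 0 := by omega
  have h5 : (2 * j + 1) / 2 = j := by omega
  rw [if_neg h4, h5]

theorem tab_word {u : List ℕ} (hu : ∀ x ∈ u, x < 6) {i : ℕ} (hi : i < 1288) :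
    wordEl (ltr g) u • ω i = ω (walkEnd dt i u) := by
  induction u generalizing i with
  | nil =>
    simp [walkEnd]
  | cons x u ih =>
    have hx : x < 6 := hu x (by simp)
    rw [wordEl_cons, mul_smul, tab.hact i hi x hx]
    exact ih (fun y hy => hu y (by simp [hy])) (dt_lt i hi x hx)

section Walks

variable {E : Type u} [Group E] (D : ExtData E) {χ : E → ZMod 2}
  (hχ : ∀ a b, D.π a ∈ LL → D.π b ∈ LL → χ (a * b) = χ a + χ b) (hχn : ∀ w, χ (D.n w) = fw w 0)
  {rep : ℕ → E} (hrep : ∀ i < 1288, D.π (rep i) • ω 0 = ω i)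

/-- The element on an edge. -/
noncomputable def egE (rep : ℕ → E) (Y : ℕ → E) (i x : ℕ) : E := (rep (dt i x))⁻¹ * ltr Y x * rep i

include hrep in
theorem closed_mem {a : E} {i j : ℕ} (hi : i < 1288) (hj : j < 1288) (h : D.π a • ω i = ω j) :
    D.π ((rep j)⁻¹ * a * rep i) ∈ LL := by
  rw [MulAction.mem_stabilizer_iff, map_mul, map_mul, map_inv]
  exact stab_of_smul (hrep i hi) (hrep j hj) h

include hrep in
theorem egE_mem {Y : ℕ → E} (hY : ∀ j, D.π (Y j) = g j) {i x : ℕ} (hi : i < 1288) (hx : x < 6) :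
    D.π (egE rep Y i x) ∈ LL := by
  refine closed_mem D hrep hi (dt_lt i hi x hx) ?_
  rw [map_ltr, funext hY]
  exact tab.hact i hi x hx

theorem chi_one (hχn : ∀ w, χ (D.n w) = fw w 0) : χ 1 = 0 := by
  have h := hχn 0
  rwa [D.n_zero, fw_zero] at h

include hχ hχn in
theorem chi_inv {a : E} (ha : D.π a ∈ LL) : χ a⁻¹ = χ a := by
  have h1 : D.π a⁻¹ ∈ LL := by
    rw [map_inv]
    exact inv_mem ha
  have h2 := hχ a a⁻¹ ha h1
  rw [mul_inv_cancel, chi_one D hχn] at h2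
  generalize χ a⁻¹ = p at h2 ⊢
  generalize χ a = q at h2 ⊢
  revert p q
  decide

include hχ hχn hrep in
/-- The values on closed walks. -/
theorem walk_chi {Y : ℕ → E} (hY : ∀ j, D.π (Y j) = g j) {u : List ℕ} (hu : ∀ x ∈ u, x < 6) {i : ℕ}
    (hi : i < 1288) :
    D.π ((rep (walkEnd dt i u))⁻¹ * wordEl (ltr Y) u * rep i) ∈ LL ∧
      χ ((rep (walkEnd dt i u))⁻¹ * wordEl (ltr Y) u * rep i) = walkAdd (fun i x => χ (egE rep Y i x)) i u := by
  induction u generalizing i with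
  | nil =>
    have h1 : (rep (walkEnd dt i []))⁻¹ * wordEl (ltr Y) [] * rep i = 1 := by
      simp [walkEnd]
    rw [h1, map_one]
    exact ⟨one_mem _, chi_one D hχn⟩
  | cons x u ih =>
    have hx : x < 6 := hu x (by simp)
    have hu' : ∀ y ∈ u, y < 6 := fun y hy => hu y (by simp [hy])
    obtain ⟨h1, h2⟩ := ih hu' (dt_lt i hi x hx)
    have h3 := egE_mem D hrep hY hi hx
    have key : (rep (walkEnd dt i (x :: u)))⁻¹ * wordEl (ltr Y) (x :: u) * rep i =
        ((rep (walkEnd dt (dt i x) u))⁻¹ * wordEl (ltr Y) u * rep (dt i x)) * egE rep Y i x := by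
      simp only [walkEnd, wordEl_cons, egE]
      group
    rw [key]
    refine ⟨?_, ?_⟩
    · rw [map_mul]
      exact mul_mem h1 h3
    · rw [hχ _ _ h1 h3, h2, add_comm]
      rfl

include hχn hrep in
theorem chi_conj (v : GolayPt → ZMod 2) {i : ℕ} (hi : i < 1288) : χ ((rep i)⁻¹ * D.n v * rep i) = fw v i := by
  have h1 : (rep i)⁻¹ * D.n v * rep i = D.n (v ∘ ⇑(((D.π (rep i)⁻¹ : G) : P)⁻¹)) := by
    have := D.hconj (rep i)⁻¹ v
    rwa [inv_inv] at this
  rw [h1, hχn]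
  refine fw_comp ?_ v
  show D.π (rep i)⁻¹ • ω i = ω 0
  rw [map_inv, inv_smul_eq_iff, hrep i hi]

include hrep in
theorem conj_mem_LL (v : GolayPt → ZMod 2) {i : ℕ} (hi : i < 1288) : D.π ((rep i)⁻¹ * D.n v * rep i) ∈ LL := by
  refine closed_mem D hrep hi hi ?_
  rw [D.hπ, one_smul]

include hχ hχn hrep in
/-- The sums of the labels on a relator. -/
theorem walk_rel {Y : ℕ → E} (hY : ∀ j, D.π (Y j) = g j) {u : List ℕ} (hu : ∀ x ∈ u, x < 6) {i : ℕ}
    (hi : i < 1288) (hc : walkEnd dt i u = i) {v : GolayPt → ZMod 2} (hv : wordEl (ltr Y) u = D.n v) :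
    walkAdd (fun i x => χ (egE rep Y i x)) i u = fw v i := by
  have h := (walk_chi D hχ hχn hrep hY hu hi).2
  rw [hc, hv, chi_conj D hχn hrep v hi] at h
  exact h.symm

include hχ hχn hrep in
/-- The labels after a change of the generators. -/
theorem egE_change {Y : ℕ → E} (hY : ∀ j, D.π (Y j) = g j) (w : ℕ → GolayPt → ZMod 2) {Y' : ℕ → E}
    (hY' : ∀ j < 3, Y' j = Y j * D.n (w j)) {i x : ℕ} (hi : i < 1288) (hx : x < 6) :
    χ (egE rep Y' i x) = χ (egE rep Y i x) + prz w i x := by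
  rcases Nat.even_or_odd' x with ⟨j, rfl | rfl⟩
  · have hj : j < 3 := by omega
    have h1 : egE rep Y' i (2 * j) = egE rep Y i (2 * j) * ((rep i)⁻¹ * D.n (w j) * rep i) := by
      simp only [egE, ltr_even, hY' j hj]
      group
    rw [h1, hχ _ _ (egE_mem D hrep hY hi hx) (conj_mem_LL D hrep _ hi), chi_conj D hχn hrep _ hi]
    congr 1
    unfold prz src
    have h7 : Nat.mod (2 * j) 2 = 0 := by
      show (2 * j) % 2 = 0
      omega
    have h8 : 2 * j / 2 = j := by omega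
    rw [h7, h8]
    rfl
  · have hj : j < 3 := by omega
    have hti := dt_lt i hi _ hx
    have h1 : egE rep Y' i (2 * j + 1) =
        ((rep (dt i (2 * j + 1)))⁻¹ * D.n (w j) * rep (dt i (2 * j + 1))) * egE rep Y i (2 * j + 1) := by
      simp only [egE, ltr_odd, hY' j hj, mul_inv_rev, D.n_inv]
      group
    rw [h1, hχ _ _ (conj_mem_LL D hrep _ hti) (egE_mem D hrep hY hi hx), chi_conj D hχn hrep _ hti, add_comm]
    congr 1
    unfold prz src
    have h7 : Nat.mod (2 * j + 1) 2 = 1 := by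
      show (2 * j + 1) % 2 = 1
      omega
    have h8 : (2 * j + 1) / 2 = j := by omega
    rw [h7, h8]
    rfl

end Walks

/-- **The main step**: good generators of an extension. -/
theorem exists_good_lifts {E : Type u} [Group E] [Finite E] (D : ExtData E) :
    ∃ (Y : ℕ → E) (ε : ZMod 2), (∀ j, D.π (Y j) = g j) ∧ (∀ j, 3 ≤ j → Y j = 1) ∧
      ∀ k < 14, wordEl (ltr Y) (c.W.getD k []) = D.n (ε • maskWord (vk.getD k 0)) := by
  classical
  obtain ⟨χ, hχ, hχn⟩ := exists_chi D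
  choose Y₀ hY₀ using fun j => D.hs (g j)
  let rep : ℕ → E := repOf Y₀ dpar dlt
  have tab' : Tab (fun j => D.π (Y₀ j)) ω 3 1288 dt dpar dlt := by
    rw [funext hY₀]
    exact tab
  have hrep : ∀ i < 1288, D.π (rep i) • ω 0 = ω i := fun i hi => repOf_smul tab' hi
  let d : ℕ → ℕ → ZMod 2 := fun i x => χ (egE rep Y₀ i x)
  have hflip : ∀ i < 1288, ∀ x < 6, d (dt i x) (flp x) = d i x := by
    intro i hi x hx
    have h1 : egE rep Y₀ (dt i x) (flp x) = (egE rep Y₀ i x)⁻¹ := by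
      simp only [egE, dt_flp i hi x hx, ltr_flp]
      group
    show χ (egE rep Y₀ (dt i x) (flp x)) = _
    rw [h1]
    exact chi_inv D hχ hχn (egE_mem D hrep hY₀ hi hx)
  have hW : ∀ k, ∃ v : GolayPt → ZMod 2, k < 14 → wordEl (ltr Y₀) (c.W.getD k []) = D.n v := by
    intro k
    by_cases hk : k < 14
    · have h1 : D.π (wordEl (ltr Y₀) (c.W.getD k [])) = 1 := by
        rw [map_wordEl_ltr, funext hY₀]
        exact hrel k hk
      obtain ⟨v, hv⟩ := D.hker _ h1
      exact ⟨v, fun _ => hv⟩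
    · exact ⟨0, fun h => absurd h hk⟩
  choose v hv using hW
  obtain ⟨ε, w, τ, hsol⟩ := solve d v hflip (fun k hk i hi =>
    walk_rel D hχ hχn hrep hY₀ (hn k) hi (rel_walk hk hi).1 (hv k hk))
  -- the new generators
  let Y : ℕ → E := fun j => if j < 3 then Y₀ j * D.n (w j) else 1
  have hYlt : ∀ j < 3, Y j = Y₀ j * D.n (w j) := fun j hj => if_pos hj
  have hYπ : ∀ j, D.π (Y j) = g j := by
    intro j
    by_cases hj : j < 3
    · rw [hYlt j hj, map_mul, D.hπ, mul_one, hY₀]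
    · have h1 : Y j = 1 := if_neg hj
      rw [h1, map_one, g_ge (not_lt.1 hj)]
  refine ⟨Y, ε, hYπ, fun j hj => if_neg (by omega), ?_⟩
  intro k hk
  have h1 : D.π (wordEl (ltr Y) (c.W.getD k [])) = 1 := by
    rw [map_wordEl_ltr, funext hYπ]
    exact hrel k hk
  obtain ⟨v', hv'⟩ := D.hker _ h1
  rw [hv']
  apply D.n_eq_of_fw
  intro i hi
  have h2 := walk_rel D hχ hχn hrep hYπ (hn k) hi (rel_walk hk hi).1 hv'
  rw [← h2, fw_smul, ← lb_rel hk hi]
  -- the labels
  have h3 : ∀ (u : List ℕ), (∀ x ∈ u, x < 6) → ∀ i < 1288,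
      walkAdd (fun i x => χ (egE rep Y i x)) i u =
        walkAdd (fun i x => ε * lb i x + τ i + τ (dt i x)) i u := by
    intro u hu
    induction u with
    | nil => intro i _; rfl
    | cons x u ih =>
      intro i hi
      have hx : x < 6 := hu x (by simp)
      simp only [walkAdd]
      rw [ih (fun y hy => hu y (by simp [hy])) _ (dt_lt i hi x hx),
        egE_change D hχ hχn hrep hY₀ w hYlt hi hx]
      congr 1
      exact hsol i hi x hx
  rw [h3 _ (hn k) i hi, walkAdd_delta, (rel_walk hk hi).1, walkAdd_scale]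
  linear_combination add_self_z2 (τ i)

/-- A complement from generators with the relators. -/
theorem complement_of_lifts {E : Type u} [Group E] [Finite E] (D : ExtData E) {Y : ℕ → E}
    (hY : ∀ j, D.π (Y j) = g j) (h1 : ∀ j, 3 ≤ j → Y j = 1)
    (hr : ∀ k < 14, wordEl (ltr Y) (c.W.getD k []) = 1) :
    ∃ H : Subgroup E, H ⊓ D.π.ker = ⊥ ∧ H ⊔ D.π.ker = ⊤ := by
  let H : Subgroup E := Subgroup.closure (Y '' Set.Iio 3)
  have hmem : ∀ j, Y j ∈ H := by
    intro j
    by_cases hj : j < 3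
    · exact Subgroup.subset_closure ⟨j, hj, rfl⟩
    · rw [h1 j (not_lt.1 hj)]
      exact one_mem _
  let el : ℕ → H := fun j => ⟨Y j, hmem j⟩
  have hel : (fun j => ((el j : H) : E)) = Y := rfl
  have hcard : Nat.card H ≤ Nat.card G := by
    refine card_le' (el := el) ?_ ?_
    · intro k hk
      apply Subtype.ext
      have := map_wordEl_ltr H.subtype el (c.W.getD k [])
      exact this.trans (hr k hk)
    · intro x
      have h2 : x ∈ (Subgroup.closure (Subtype.val ⁻¹' (Y '' Set.Iio 3)) : Subgroup H) := by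
        rw [Subgroup.closure_closure_coe_preimage]
        trivial
      refine Subgroup.closure_mono ?_ h2
      rintro ⟨a, ha⟩ ⟨j, hj, hja⟩
      refine ⟨j, hj, ?_⟩
      apply Subtype.ext
      exact hja
  let f : H →* G := D.π.comp H.subtype
  have hf : (fun j => f (el j)) = g := funext hY
  have hs : Function.Surjective f := by
    intro h
    obtain ⟨w, _, hw⟩ := exists_word (hgen h)
    refine ⟨wordEl (ltr el) w, ?_⟩
    rw [map_wordEl_ltr, hf]
    exact hw
  have hb := hs.bijective_of_nat_card_le hcard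
  refine ⟨H, ?_, ?_⟩
  · rw [eq_bot_iff]
    rintro x ⟨hx1, hx2⟩
    have h2 : f ⟨x, hx1⟩ = f 1 := by
      rw [map_one]
      exact hx2
    have h3 := hb.1 h2
    exact congrArg Subtype.val h3
  · rw [eq_top_iff]
    intro e _
    obtain ⟨a, ha⟩ := hs (D.π e)
    have h2 : (a : E)⁻¹ * e ∈ D.π.ker := by
      rw [MonoidHom.mem_ker, map_mul, map_inv]
      have : D.π (a : E) = D.π e := ha
      rw [this, inv_mul_cancel]
    have h3 := Subgroup.mul_mem_sup a.2 h2
    rwa [mul_inv_cancel_left] at h3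

/-- The projection of a subgroup of a product is bijective, when the subgroup is small. -/
theorem iso_of_lifts {E : Type u} {E' : Type v} [Group E] [Finite E] [Group E'] [Finite E'] (D : ExtData E)
    (D' : ExtData E') {Y : ℕ → E} {Y' : ℕ → E'} (hY : ∀ j, D.π (Y j) = g j) (hY' : ∀ j, D'.π (Y' j) = g j)
    (h1 : ∀ j, 3 ≤ j → Y j = 1) (h1' : ∀ j, 3 ≤ j → Y' j = 1) (m : ℕ → GolayPt → ZMod 2)
    (hr : ∀ k < 14, wordEl (ltr Y) (c.W.getD k []) = D.n (m k))
    (hr' : ∀ k < 14, wordEl (ltr Y') (c.W.getD k []) = D'.n (m k)) : Nonempty (E ≃* E') := by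
  classical
  let pp : ℕ → E × E' := fun j => (Y j, Y' j)
  let nn : (GolayPt → ZMod 2) → E × E' := fun w => (D.n w, D'.n w)
  let Λ : Subgroup (E × E') := Subgroup.closure (Set.range pp ∪ Set.range nn)
  have hpp : ∀ j, pp j ∈ Λ := fun j => Subgroup.subset_closure (Or.inl ⟨j, rfl⟩)
  have hnn : ∀ w, nn w ∈ Λ := fun w => Subgroup.subset_closure (Or.inr ⟨w, rfl⟩)
  have hΛ : ∀ x ∈ Λ, D.π x.1 = D'.π x.2 := by
    intro x hx
    induction hx using Subgroup.closure_induction with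
    | mem y hy =>
      rcases hy with ⟨j, rfl⟩ | ⟨w, rfl⟩
      · exact (hY j).trans (hY' j).symm
      · exact (D.hπ w).trans (D'.hπ w).symm
    | one => simp
    | mul a b _ _ ha hb =>
      show D.π (a.1 * b.1) = D'.π (a.2 * b.2)
      rw [map_mul, map_mul, ha, hb]
    | inv a _ ha =>
      show D.π a.1⁻¹ = D'.π a.2⁻¹
      rw [map_inv, map_inv, ha]
  have nn_add : ∀ w w', nn w * nn w' = nn (w + w') := by
    intro w w'
    apply Prod.ext
    · exact (D.hadd w w').symm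
    · exact (D'.hadd w w').symm
  have nn_zero : nn 0 = 1 := Prod.ext D.n_zero D'.n_zero
  have nn_inv : ∀ w, (nn w)⁻¹ = nn w := fun w => Prod.ext (D.n_inv w) (D'.n_inv w)
  let Δ : Subgroup Λ :=
    { carrier := {x | ∃ w, (x : E × E') = nn w}
      mul_mem' := by
        rintro a b ⟨w, h⟩ ⟨w', h'⟩
        exact ⟨w + w', by rw [Subgroup.coe_mul, h, h', nn_add]⟩
      one_mem' := ⟨0, by rw [nn_zero]; rfl⟩
      inv_mem' := by
        rintro a ⟨w, h⟩
        exact ⟨w, by rw [Subgroup.coe_inv, h, nn_inv]⟩ }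
  have hΔn : Δ.Normal := by
    refine ⟨?_⟩
    rintro a ⟨w, h⟩ x
    refine ⟨w ∘ ⇑(((D.π (x : E × E').1 : G) : P)⁻¹), ?_⟩
    rw [Subgroup.coe_mul, Subgroup.coe_mul, Subgroup.coe_inv, h]
    apply Prod.ext
    · exact D.hconj _ w
    · show (x : E × E').2 * D'.n w * (x : E × E').2⁻¹ = D'.n (w ∘ ⇑(((D.π (x : E × E').1 : G) : P)⁻¹))
      rw [D'.hconj, hΛ _ x.2]
  let ppΛ : ℕ → Λ := fun j => ⟨pp j, hpp j⟩
  let X := Λ ⧸ Δ
  let elX : ℕ → X := fun j => ((ppΛ j : Λ) : X)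
  have hword1 : ∀ u : List ℕ, ((wordEl (ltr ppΛ) u : Λ) : E × E').1 = wordEl (ltr Y) u :=
    fun u => map_wordEl_ltr ((MonoidHom.fst E E').comp Λ.subtype) ppΛ u
  have hword2 : ∀ u : List ℕ, ((wordEl (ltr ppΛ) u : Λ) : E × E').2 = wordEl (ltr Y') u :=
    fun u => map_wordEl_ltr ((MonoidHom.snd E E').comp Λ.subtype) ppΛ u
  have hcardX : Nat.card X ≤ Nat.card G := by
    refine card_le' (el := elX) ?_ ?_
    · intro k hk
      have h2 := map_wordEl_ltr (QuotientGroup.mk' Δ) ppΛ (c.W.getD k [])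
      have h3 : (fun j => QuotientGroup.mk' Δ (ppΛ j)) = elX := rfl
      rw [h3] at h2
      rw [← h2]
      show ((wordEl (ltr ppΛ) (c.W.getD k []) : Λ) : X) = 1
      rw [QuotientGroup.eq_one_iff]
      refine ⟨m k, ?_⟩
      apply Prod.ext
      · rw [hword1]
        exact hr k hk
      · rw [hword2]
        exact hr' k hk
    · intro x
      obtain ⟨e, rfl⟩ := QuotientGroup.mk_surjective x
      obtain ⟨b, hb⟩ := e
      induction hb using Subgroup.closure_induction with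
      | mem y hy =>
        rcases hy with ⟨j, rfl⟩ | ⟨w, rfl⟩
        · by_cases hj : j < 3
          · exact Subgroup.subset_closure ⟨j, hj, rfl⟩
          · have h2 : (⟨pp j, Subgroup.subset_closure (Or.inl ⟨j, rfl⟩)⟩ : Λ) = 1 := by
              apply Subtype.ext
              exact Prod.ext (h1 j (not_lt.1 hj)) (h1' j (not_lt.1 hj))
            rw [h2]
            exact one_mem _
        · have h2 : ((⟨nn w, Subgroup.subset_closure (Or.inr ⟨w, rfl⟩)⟩ : Λ) : X) = 1 := by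
            rw [QuotientGroup.eq_one_iff]
            exact ⟨w, rfl⟩
          rw [h2]
          exact one_mem _
      | one => exact one_mem _
      | mul y z hy hz ihy ihz => exact mul_mem ihy ihz
      | inv y hy ih => exact inv_mem ih
  have hcardΛ : Nat.card Λ = Nat.card X * Nat.card Δ := Δ.card_eq_card_quotient_mul_card_subgroup
  -- the cardinalities
  have hcE : Nat.card E = Nat.card G * Nat.card D.π.ker := by
    have h2 := D.π.ker.card_eq_card_quotient_mul_card_subgroup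
    rw [Nat.card_congr (QuotientGroup.quotientKerEquivOfSurjective D.π D.hs).toEquiv] at h2
    exact h2
  have hcE' : Nat.card E' = Nat.card G * Nat.card D'.π.ker := by
    have h2 := D'.π.ker.card_eq_card_quotient_mul_card_subgroup
    rw [Nat.card_congr (QuotientGroup.quotientKerEquivOfSurjective D'.π D'.hs).toEquiv] at h2
    exact h2
  have hΔ1 : Nat.card Δ ≤ Nat.card D.π.ker := by
    refine Nat.card_le_card_of_injective
      (fun x : Δ => (⟨((x : Λ) : E × E').1, ?_⟩ : D.π.ker)) ?_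
    · obtain ⟨w, hw⟩ := x.2
      rw [MonoidHom.mem_ker, hw]
      exact D.hπ w
    · intro a b hab
      obtain ⟨w, hw⟩ := a.2
      obtain ⟨w', hw'⟩ := b.2
      have h2 : ((a : Λ) : E × E').1 = ((b : Λ) : E × E').1 := congrArg Subtype.val hab
      rw [hw, hw'] at h2
      have h3 : D.n w = D.n w' := h2
      apply Subtype.ext
      apply Subtype.ext
      rw [hw, hw']
      exact Prod.ext h3 (D'.n_eq_of_fw (D.fw_of_n_eq h3))
  have hΔ2 : Nat.card Δ ≤ Nat.card D'.π.ker := by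
    refine Nat.card_le_card_of_injective
      (fun x : Δ => (⟨((x : Λ) : E × E').2, ?_⟩ : D'.π.ker)) ?_
    · obtain ⟨w, hw⟩ := x.2
      rw [MonoidHom.mem_ker, hw]
      exact D'.hπ w
    · intro a b hab
      obtain ⟨w, hw⟩ := a.2
      obtain ⟨w', hw'⟩ := b.2
      have h2 : ((a : Λ) : E × E').2 = ((b : Λ) : E × E').2 := congrArg Subtype.val hab
      rw [hw, hw'] at h2
      have h3 : D'.n w = D'.n w' := h2
      apply Subtype.ext
      apply Subtype.ext
      rw [hw, hw']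
      exact Prod.ext (D.n_eq_of_fw (D'.fw_of_n_eq h3)) h3
  let p₁ : Λ →* E := (MonoidHom.fst E E').comp Λ.subtype
  let p₂ : Λ →* E' := (MonoidHom.snd E E').comp Λ.subtype
  have hs₁ : Function.Surjective p₁ := by
    intro e
    obtain ⟨u, _, hu⟩ := exists_word (hgen (D.π e))
    have h2 : D.π (wordEl (ltr Y) u) = D.π e := by
      rw [map_wordEl_ltr, funext hY, hu]
    obtain ⟨w, hw⟩ := D.hker ((wordEl (ltr Y) u)⁻¹ * e) (by
      rw [map_mul, map_inv, h2, inv_mul_cancel])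
    refine ⟨wordEl (ltr ppΛ) u * ⟨nn w, hnn w⟩, ?_⟩
    show ((wordEl (ltr ppΛ) u : Λ) : E × E').1 * D.n w = e
    rw [hword1, ← hw]
    group
  have hs₂ : Function.Surjective p₂ := by
    intro e
    obtain ⟨u, _, hu⟩ := exists_word (hgen (D'.π e))
    have h2 : D'.π (wordEl (ltr Y') u) = D'.π e := by
      rw [map_wordEl_ltr, funext hY', hu]
    obtain ⟨w, hw⟩ := D'.hker ((wordEl (ltr Y') u)⁻¹ * e) (by
      rw [map_mul, map_inv, h2, inv_mul_cancel])
    refine ⟨wordEl (ltr ppΛ) u * ⟨nn w, hnn w⟩, ?_⟩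
    show ((wordEl (ltr ppΛ) u : Λ) : E × E').2 * D'.n w = e
    rw [hword2, ← hw]
    group
  have hb₁ := hs₁.bijective_of_nat_card_le (by
    rw [hcardΛ, hcE]
    exact Nat.mul_le_mul hcardX hΔ1)
  have hb₂ := hs₂.bijective_of_nat_card_le (by
    rw [hcardΛ, hcE']
    exact Nat.mul_le_mul hcardX hΔ2)
  exact ⟨(MulEquiv.ofBijective p₁ hb₁).symm.trans (MulEquiv.ofBijective p₂ hb₂)⟩

/-- The data of an extension from the data of the statements. -/
noncomputable def extOf {E : Type u} [Group E] (N : Subgroup E) [hN : N.Normal]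
    (φ : E ⧸ N ≃* ↥Cfsg.Spor.M23) (θ : (Cfsg.GolayPt → ZMod 2) →+ Additive ↥N)
    (hsurj : Function.Surjective θ)
    (hker : ∀ w : Cfsg.GolayPt → ZMod 2, θ w = 0 ↔ (w ∈ Cfsg.golayCode ∨ w + Pi.single none 1 ∈ Cfsg.golayCode))
    (hθ : ∀ (g : E) (w : Cfsg.GolayPt → ZMod 2),
      ((θ (w ∘ ⇑(((φ (QuotientGroup.mk g) : ↥Cfsg.Spor.M23) : Equiv.Perm Cfsg.GolayPt)⁻¹))).toMul : E)
        = g * ((θ w).toMul : E) * g⁻¹) : ExtData E where
  π := φ.toMonoidHom.comp (QuotientGroup.mk' N)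
  n w := ((θ w).toMul : N)
  hs := φ.surjective.comp (QuotientGroup.mk'_surjective N)
  hadd w w' := by
    rw [map_add]
    rfl
  hπ w := by
    show φ ((((θ w).toMul : N) : E) : E ⧸ N) = 1
    rw [(QuotientGroup.eq_one_iff _).2 (θ w).toMul.2, map_one]
  hker e he := by
    have h1 : (e : E ⧸ N) = 1 := φ.injective (by rw [map_one]; exact he)
    have h2 : e ∈ N := (QuotientGroup.eq_one_iff e).1 h1
    obtain ⟨w, hw⟩ := hsurj (Additive.ofMul ⟨e, h2⟩)
    refine ⟨w, ?_⟩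
    rw [hw]
    rfl
  hone w := by
    rw [fw_eq_zero_iff, ← hker]
    constructor
    · intro h
      apply Additive.toMul.injective
      apply Subtype.ext
      exact h
    · intro h
      rw [h]
      rfl
  hconj e w := (hθ e w).symm

theorem extOf_ker {E : Type u} [Group E] (N : Subgroup E) [hN : N.Normal]
    (φ : E ⧸ N ≃* ↥Cfsg.Spor.M23) (θ : (Cfsg.GolayPt → ZMod 2) →+ Additive ↥N)
    (hsurj : Function.Surjective θ)
    (hker : ∀ w : Cfsg.GolayPt → ZMod 2, θ w = 0 ↔ (w ∈ Cfsg.golayCode ∨ w + Pi.single none 1 ∈ Cfsg.golayCode))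
    (hθ : ∀ (g : E) (w : Cfsg.GolayPt → ZMod 2),
      ((θ (w ∘ ⇑(((φ (QuotientGroup.mk g) : ↥Cfsg.Spor.M23) : Equiv.Perm Cfsg.GolayPt)⁻¹))).toMul : E)
        = g * ((θ w).toMul : E) * g⁻¹) : (extOf N φ θ hsurj hker hθ).π.ker = N := by
  ext e
  rw [MonoidHom.mem_ker]
  show φ (e : E ⧸ N) = 1 ↔ _
  rw [map_eq_one_iff φ φ.injective, QuotientGroup.eq_one_iff]

/-- Generators of a nonsplit extension with the relators of the nonsplit model. -/
theorem exists_lifts_nonsplit {E : Type u} [Group E] [Finite E] (D : ExtData E)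
    (hns : ∀ H : Subgroup E, H ⊓ D.π.ker = ⊥ → H ⊔ D.π.ker ≠ ⊤) :
    ∃ Y : ℕ → E, (∀ j, D.π (Y j) = g j) ∧ (∀ j, 3 ≤ j → Y j = 1) ∧
      ∀ k < 14, wordEl (ltr Y) (c.W.getD k []) = D.n (maskWord (vk.getD k 0)) := by
  obtain ⟨Y, ε, h1, h2, h3⟩ := exists_good_lifts D
  have hz2 : ∀ a : ZMod 2, a = 0 ∨ a = 1 := by decide
  have hε : ε = 0 ∨ ε = 1 := hz2 ε
  rcases hε with rfl | rfl
  · exfalso
    obtain ⟨H, h4, h5⟩ := complement_of_lifts D h1 h2 (by
      intro k hk
      rw [h3 k hk, zero_smul, D.n_zero])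
    exact hns H h4 h5
  · refine ⟨Y, h1, h2, ?_⟩
    intro k hk
    rw [h3 k hk, one_smul]

end Cfsg.Agent.Lib.Compute.M23Ext
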